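import Cfsg.Agent.Lib.Transfer.Basic
import Mathlib.GroupTheory.Sylow
import Mathlib.LinearAlgebra.Matrix.Charpoly.FiniteField

/-!
Small tools: `p`-elements, inverted elements, and the friendship theorem for regular graphs.
-/

set_option autoImplicit false
set_option linter.style.haveILetI false
set_option linter.unusedSectionVars false

namespace Cfsg.Agent.QMixed

/-- An element of `p`-power order. -/
def PEl {G : Type*} [Monoid G] (p : ℕ) (x : G) : Prop := ∃ k, orderOf x = p ^ k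

variable {G : Type*} [Group G] {p : ℕ} [hp : Fact p.Prime]

theorem pel_of_mem {H : Subgroup G} (hH : IsPGroup p H) {x : G} (hx : x ∈ H) : PEl p x := by
  obtain ⟨k, hk⟩ := IsPGroup.iff_orderOf.1 hH ⟨x, hx⟩
  exact ⟨k, by rw [← hk, Subgroup.orderOf_mk]⟩

theorem PEl.isPGroup {x : G} (h : PEl p x) : IsPGroup p (Subgroup.zpowers x) := by
  obtain ⟨k, hk⟩ := h
  exact IsPGroup.of_card (n := k) (by rw [Nat.card_zpowers, hk])

theorem PEl.conj {x : G} (h : PEl p x) (g : G) : PEl p (g * x * g⁻¹) := by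
  obtain ⟨k, hk⟩ := h
  exact ⟨k, (orderOf_injective (MulAut.conj g).toMonoidHom (MulAut.conj g).injective x).trans hk⟩

theorem PEl.of_mem_zpowers {x y : G} (h : PEl p x) (hy : y ∈ Subgroup.zpowers x) : PEl p y :=
  pel_of_mem h.isPGroup hy

theorem PEl.exists_sylow [Finite G] {x : G} (h : PEl p x) : ∃ P : Sylow p G, x ∈ P := by
  obtain ⟨P, hP⟩ := h.isPGroup.exists_le_sylow
  exact ⟨P, hP (Subgroup.mem_zpowers x)⟩

theorem PEl.eq_one_of_coprime {x : G} (h : PEl p x) (hc : (orderOf x).Coprime p) : x = 1 := by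
  obtain ⟨k, hk⟩ := h
  rw [hk] at hc
  rw [← orderOf_eq_one_iff, hk]
  cases k with
  | zero => rfl
  | succ k =>
    exact absurd ((Nat.coprime_self p).1 (Nat.Coprime.coprime_dvd_left
      (dvd_pow_self p k.succ_ne_zero) hc)) hp.out.ne_one

theorem conj_mem_smul {P : Sylow p G} {g x : G} (hx : x ∈ P) :
    g * x * g⁻¹ ∈ (g • P : Sylow p G) := by
  rw [← SetLike.mem_coe, Sylow.coe_smul]
  exact ⟨x, hx, rfl⟩

theorem of_mem_smul {P : Sylow p G} {g y : G} (hy : y ∈ (g • P : Sylow p G)) :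
    ∃ x ∈ P, g * x * g⁻¹ = y := by
  rw [← SetLike.mem_coe, Sylow.coe_smul] at hy
  obtain ⟨x, hx, hxy⟩ := hy
  exact ⟨x, hx, hxy⟩

theorem mem_sylow_of_normalizes [Finite G] {P : Sylow p G} {x : G} (hx : PEl p x)
    (hn : x ∈ Subgroup.normalizer ((P : Subgroup G) : Set G)) : x ∈ P := by
  have h := hx.isPGroup.inf_normalizer_sylow P
  have h2 : x ∈ Subgroup.zpowers x ⊓ (P : Subgroup G) := h ▸ ⟨Subgroup.mem_zpowers x, hn⟩
  exact h2.2

theorem inf_sylow_eq_bot {q : ℕ} [hq : Fact q.Prime] (hpq : p ≠ q) {H K : Subgroup G}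
    (hH : IsPGroup p H) (hK : IsPGroup q K) {x : G} (hxH : x ∈ H) (hxK : x ∈ K) : x = 1 := by
  obtain ⟨k, hk⟩ := pel_of_mem hK hxK
  refine (pel_of_mem hH hxH).eq_one_of_coprime ?_
  rw [hk]
  exact ((Nat.coprime_primes hq.out hp.out).2 (Ne.symm hpq)).pow_left k

theorem commute_of_normalizes {q : ℕ} [hq : Fact q.Prime] (hpq : p ≠ q) {H K : Subgroup G}
    (hH : IsPGroup p H) (hK : IsPGroup q K) {x y : G} (hx : x ∈ H) (hy : y ∈ K)
    (hxK : x ∈ Subgroup.normalizer (K : Set G)) (hyH : y ∈ Subgroup.normalizer (H : Set G)) :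
    x * y = y * x := by
  have h1 : x * y * x⁻¹ * y⁻¹ ∈ K :=
    mul_mem ((Subgroup.mem_normalizer_iff.1 hxK y).1 hy) (inv_mem hy)
  have h2 : x * y * x⁻¹ * y⁻¹ ∈ H := by
    rw [show x * y * x⁻¹ * y⁻¹ = x * (y * x⁻¹ * y⁻¹) by group]
    exact mul_mem hx ((Subgroup.mem_normalizer_iff.1 hyH x⁻¹).1 (inv_mem hx))
  exact mul_inv_eq_iff_eq_mul.1 (mul_inv_eq_one.1 (inf_sylow_eq_bot hpq hH hK h2 h1))

theorem mem_normalizer_of_conj_mem [Finite G] {H : Subgroup G} {g : G}
    (h : ∀ x ∈ H, g * x * g⁻¹ ∈ H) : g ∈ Subgroup.normalizer (H : Set G) := by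
  rw [Subgroup.mem_normalizer_iff]
  intro x
  refine ⟨h x, fun hx => ?_⟩
  have hinj : Function.Injective (fun z : H => (⟨g * z * g⁻¹, h z z.2⟩ : H)) := fun a b e =>
    Subtype.ext (mul_left_cancel (mul_right_cancel (Subtype.ext_iff.1 e)))
  obtain ⟨z, hz⟩ := (Finite.injective_iff_surjective.1 hinj) ⟨_, hx⟩
  have : g * (z : G) * g⁻¹ = g * x * g⁻¹ := congrArg Subtype.val hz
  rw [← mul_left_cancel (mul_right_cancel this)]
  exact z.2

theorem eq_of_mul_self {H : Subgroup G} (hc : ∀ a ∈ H, ∀ b ∈ H, a * b = b * a)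
    {t : G} (ht : t * t = 1) (htH : ∀ a ∈ H, t * a * t⁻¹ ∈ H)
    (hfix : ∀ a ∈ H, t * a = a * t → a = 1) : ∀ a ∈ H, t * a * t⁻¹ = a⁻¹ := by
  intro a ha
  have hti : t⁻¹ = t := inv_eq_of_mul_eq_one_right ht
  have h1 := hfix (a * (t * a * t⁻¹)) (mul_mem ha (htH a ha)) (by
    rw [hc a ha _ (htH a ha), hti]
    calc t * (t * a * t * a) = t * t * a * t * a := by group
      _ = a * t * a := by rw [ht, one_mul]
      _ = a * t * a * (t * t) := by rw [ht, mul_one]
      _ = _ := by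
        have h2 := hc _ ha _ (htH a ha)
        rw [hti] at h2
        calc a * t * a * (t * t) = a * (t * a * t) * t := by group
          _ = t * a * t * a * t := by rw [h2])
  exact (inv_eq_of_mul_eq_one_right h1).symm

/-- The friendship theorem for regular graphs of degree at least three. -/
theorem friendship {I : Type*} [Fintype I] [DecidableEq I] [Nonempty I] (R : I → I → Prop)
    [DecidableRel R] (hsym : ∀ a b, R a b → R b a) (hirr : ∀ a, ¬ R a a) {d : ℕ} (hd : 3 ≤ d)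
    (hdeg : ∀ a, (Finset.univ.filter (R a)).card = d)
    (huniq : ∀ a b, a ≠ b → ∃! s, R a s ∧ R b s) : False := by
  obtain ⟨r, hr, hrd⟩ : ∃ r : ℕ, r.Prime ∧ r ∣ d - 1 := Nat.exists_prime_and_dvd (by omega)
  haveI := Fact.mk hr
  have hd1 : (d : ZMod r) = 1 := by
    have : ((d - 1 : ℕ) : ZMod r) = 0 := (ZMod.natCast_eq_zero_iff _ _).2 hrd
    rw [show d = d - 1 + 1 by omega, Nat.cast_add, this, zero_add, Nat.cast_one]
  let A : Matrix I I (ZMod r) := Matrix.of fun a s => if R a s then 1 else 0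
  let J : Matrix I I (ZMod r) := Matrix.of fun _ _ => 1
  have hA2 : A * A = J := by
    ext a b
    simp only [Matrix.mul_apply, A, J, Matrix.of_apply, ← ite_and, mul_ite, mul_one, mul_zero]
    rw [Finset.sum_boole]
    by_cases hab : a = b
    · subst hab
      have hfe : ∀ s, (R s a ∧ R a s) ↔ R a s := fun s => ⟨fun h => h.2, fun h => ⟨hsym _ _ h, h⟩⟩
      simp only [hfe]
      rw [hdeg a]
      exact hd1
    · obtain ⟨s, ⟨hs1, hs2⟩, hs3⟩ := huniq a b hab
      have hfe : ∀ s', (R s' b ∧ R a s') ↔ s' = s := fun s' =>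
        ⟨fun h => hs3 s' ⟨h.2, hsym _ _ h.1⟩, fun h => h ▸ ⟨hsym _ _ hs2, hs1⟩⟩
      simp only [hfe]
      simp [Finset.filter_eq']
  have hAJ : A * J = J := by
    ext a b
    simp only [Matrix.mul_apply, A, J, Matrix.of_apply, mul_one]
    rw [Finset.sum_boole, hdeg a]
    exact hd1
  have hpow : ∀ k, 2 ≤ k → A ^ k = J := by
    intro k hk
    induction k, hk using Nat.le_induction with
    | base => rw [pow_two, hA2]
    | succ k _ ih => rw [pow_succ', ih, hAJ]
  have htrA : Matrix.trace A = 0 := by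
    simp [Matrix.trace, A, hirr]
  have hn0 : (Fintype.card I : ZMod r) = 0 := by
    have h := ZMod.trace_pow_card A
    rw [hpow r hr.two_le, htrA, zero_pow hr.ne_zero] at h
    simpa [Matrix.trace, J] using h
  have hJJ : J * J = J := by
    rw [← hpow 2 le_rfl, ← pow_add, hpow 2 le_rfl, hpow (2 + 2) (by norm_num)]
  obtain ⟨x⟩ := ‹Nonempty I›
  have := congrFun (congrFun hJJ x) x
  simp [Matrix.mul_apply, J, hn0] at this

end Cfsg.Agent.QMixed
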