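import Cfsg.Agent.Lib.FGStruct.QMixed.Two

/-!
Case one: some nontrivial `p`-element centralizes a Sylow `2`-subgroup.
-/

set_option autoImplicit false
set_option linter.style.haveILetI false
set_option linter.unusedSectionVars false

namespace Cfsg.Agent.QMixed

open Subgroup

variable {G : Type*} [Group G] [Finite G] {p : ℕ}

namespace Two

variable (h : Two p G) [hp : Fact p.Prime]
include h

theorem inverted_commute_one {t y : G} (hy : t * y * t⁻¹ = y⁻¹) (hc : t * y = y * t)
    (hyp : PEl p y) : y = 1 := by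
  refine hyp.eq_one_of_coprime ?_
  rw [hc, mul_inv_cancel_right] at hy
  have : y ^ 2 = 1 := by rw [pow_two]; nth_rewrite 2 [hy]; exact mul_inv_cancel y
  exact Nat.Coprime.coprime_dvd_left (orderOf_dvd_of_pow_eq_one this)
    ((Nat.coprime_primes Nat.prime_two hp.out).2 (Ne.symm h.ne2))

theorem mem_of_normalizes {T : Sylow 2 G} {x : G} (hx : PEl 2 x)
    (hn : x ∈ normalizer ((T : Subgroup G) : Set G)) : x ∈ T :=
  haveI : Fact (Nat.Prime 2) := ⟨Nat.prime_two⟩
  mem_sylow_of_normalizes hx hn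

theorem full_cent {d : G} (hd : PEl p d) (hd1 : d ≠ 1) {T : Sylow 2 G}
    (hdT : ∀ x ∈ T, d * x = x * d) :
    centralizer {d} ≤ normalizer ((T : Subgroup G) : Set G) := by
  haveI : Fact (Nat.Prime 2) := ⟨Nat.prime_two⟩
  obtain ⟨x, hx, y, hy, hx1, hy1, hxy⟩ := h.exists_sylow_ne T
  obtain ⟨g, hg, hgN, hgx⟩ := h.mov T x hx y hy hx1 hy1
  set N := normalizer ((T : Subgroup G) : Set G) with hN
  have hdN : d ∈ N := mem_normalizer_of_conj_mem fun a ha => by
    rw [hdT a ha, mul_inv_cancel_right]; exact ha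
  have sub : ∀ a (ha : a ∈ N), PEl p a → PEl p (⟨a, ha⟩ : N) := by
    rintro a ha ⟨k, hk⟩
    exact ⟨k, by rw [orderOf_mk, hk]⟩
  obtain ⟨S, hS⟩ := (sub d hdN hd).exists_sylow
  obtain ⟨S', hS'⟩ := (sub g hgN hg).exists_sylow
  obtain ⟨c, rfl⟩ := MulAction.exists_smul_eq N S' S
  have hg' := conj_mem_smul (g := c) hS'
  obtain ⟨P, hP⟩ := ((c • S' : Sylow p N).2.map N.subtype).exists_le_sylow
  have hPd : d ∈ P := hP ⟨_, hS, rfl⟩
  have hPg : (c : G) * g * (c : G)⁻¹ ∈ P := hP ⟨_, hg', rfl⟩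
  have hC := h.centralizer_ne_top hd1 (Or.inl hd)
  have hTC : (T : Subgroup G) ≤ centralizer {d} := fun a ha =>
    mem_centralizer_singleton_iff.2 (hdT a ha).symm
  have hcx : (c : G) * x * (c : G)⁻¹ ∈ T := (mem_normalizer_iff.1 c.2 x).1 hx
  have h2 : 2 ∣ Nat.card (centralizer {d} : Subgroup G) :=
    h.dvd_card_of_invol ⟨hx1, h.el T x hx⟩ (hTC hx)
  rcases h.dich hC h2 (h.le_centralizer P hPd) with hall | ⟨T', hT', hT'N⟩
  · exfalso
    have hne : (c : G) * g * (c : G)⁻¹ * ((c : G) * x * (c : G)⁻¹) ≠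
        (c : G) * x * (c : G)⁻¹ * ((c : G) * g * (c : G)⁻¹) := by
      intro e
      apply hxy
      rw [← hgx]
      have e2 : g * x = x * g := by
        apply mul_left_cancel (a := (c : G))
        apply mul_right_cancel (b := (c : G)⁻¹)
        calc (c : G) * (g * x) * (c : G)⁻¹
            = (c : G) * g * (c : G)⁻¹ * ((c : G) * x * (c : G)⁻¹) := by group
          _ = _ := by rw [e]; group
      rw [e2, mul_inv_cancel_right]
    refine hne (commute_of_normalizes h.ne2 P.2 T.2 hPg hcx ?_ ?_)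
    · exact mul_mem (mul_mem c.2 hgN) (inv_mem c.2)
    · exact h.le_normalizer_of_all (h.le_centralizer P hPd) hall (hTC hcx)
  · have he : (T' : Subgroup G) = T :=
      T.3 T'.2 fun a ha => h.mem_of_normalizes (pel_of_mem T.2 ha) (hT'N (hTC ha))
    rwa [he] at hT'N

theorem inverted_full {d : G} (hd : PEl p d) (hd1 : d ≠ 1) {T : Sylow 2 G}
    (hdT : ∀ x ∈ T, d * x = x * d) {t : G} (ht : Invol t) (hy : t * d * t⁻¹ = d⁻¹) : False := by
  haveI : Fact (Nat.Prime 2) := ⟨Nat.prime_two⟩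
  have hTC : (T : Subgroup G) ≤ centralizer {d} := fun a ha =>
    mem_centralizer_singleton_iff.2 (hdT a ha).symm
  have htN : t ∈ normalizer ((T : Subgroup G) : Set G) := mem_normalizer_of_conj_mem fun a ha =>
    h.mem_of_normalizes ((pel_of_mem T.2 ha).conj t)
      (h.full_cent hd hd1 hdT ((mem_normalizer_iff.1 (mem_normalizer_centralizer hy) a).1 (hTC ha)))
  have htT := h.mem_of_normalizes ht.pel htN
  exact hd1 (h.inverted_commute_one hy (hdT t htT).symm hd)

/-- All involutions commuting is absurd. -/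
theorem not_all_commute (hc : ∀ a b : G, Invol a → Invol b → a * b = b * a) : False := by
  haveI : Fact (Nat.Prime 2) := ⟨Nat.prime_two⟩
  let S : Subgroup G :=
    { carrier := {x | x * x = 1}
      one_mem' := one_mul 1
      mul_mem' := by
        intro a b ha hb
        have hab : a * b = b * a := by
          rcases eq_or_ne a 1 with rfl | ha1
          · simp
          rcases eq_or_ne b 1 with rfl | hb1
          · simp
          exact hc a b ⟨ha1, ha⟩ ⟨hb1, hb⟩
        show a * b * (a * b) = 1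
        calc a * b * (a * b) = a * (b * a) * b := by group
          _ = a * a * (b * b) := by rw [← hab]; group
          _ = 1 := by rw [show a * a = 1 from ha, show b * b = 1 from hb, one_mul]
      inv_mem' := by
        intro a ha
        show a⁻¹ * a⁻¹ = 1
        rw [← mul_inv_rev, show a * a = 1 from ha, inv_one] }
  have hn : S.Normal := ⟨fun a ha g => by
    show g * a * g⁻¹ * (g * a * g⁻¹) = 1
    rw [show g * a * g⁻¹ * (g * a * g⁻¹) = g * (a * a) * g⁻¹ by group, show a * a = 1 from ha]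
    group⟩
  have h2 : IsPGroup 2 S := fun a => ⟨1, by
    rw [pow_one, pow_two]; exact Subtype.ext a.2⟩
  have hbot := h.hyp.no_normal_q hn h2
  obtain ⟨x, hx⟩ := exists_prime_orderOf_dvd_card' 2 h.hyp.qG
  have hxS : x ∈ S := by
    show x * x = 1
    rw [← pow_two, ← hx]
    exact pow_orderOf_eq_one x
  rw [hbot, mem_bot] at hxS
  rw [hxS, orderOf_one] at hx
  omega

theorem case_one {d : G} (hd : PEl p d) (hd1 : d ≠ 1) {T0 : Sylow 2 G}
    (hdT : ∀ x ∈ T0, d * x = x * d) : False := by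
  haveI : Fact (Nat.Prime 2) := ⟨Nat.prime_two⟩
  have hev : ∀ T : Sylow 2 G, ∃ d, PEl p d ∧ d ≠ 1 ∧ ∀ x ∈ T, d * x = x * d := by
    intro T
    obtain ⟨c, rfl⟩ := MulAction.exists_smul_eq G T0 T
    refine ⟨c * d * c⁻¹, hd.conj c, fun e => hd1 (conj_eq_one_iff.1 e), fun x hx => ?_⟩
    obtain ⟨u, hu, rfl⟩ := of_mem_smul hx
    calc c * d * c⁻¹ * (c * u * c⁻¹) = c * (d * u) * c⁻¹ := by group
      _ = c * u * c⁻¹ * (c * d * c⁻¹) := by rw [hdT u hu]; group
  have hcz : ∀ z, Invol z → ∀ T : Sylow 2 G, z ∈ T →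
      centralizer {z} ≤ normalizer ((T : Subgroup G) : Set G) := by
    intro z hz T hzT
    obtain ⟨e, he, he1, heT⟩ := hev T
    obtain ⟨U, hU⟩ := h.inv_cent hz
    obtain ⟨P, hUP⟩ := hU.grp.exists_le_sylow
    have heU : e ∈ U := hU.all e (mem_centralizer_singleton_iff.2 (heT z hzT)) he
    have hUN : U ≤ normalizer ((T : Subgroup G) : Set G) := fun u hu =>
      h.full_cent he he1 heT (h.le_centralizer P (hUP heU) (hUP hu))
    have hTC : (T : Subgroup G) ≤ centralizer {z} := fun a ha =>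
      mem_centralizer_singleton_iff.2 (h.sylow_comm T ha hzT)
    have hK : U ⊔ (T : Subgroup G) = centralizer {z} := by
      refine eq_of_sylows (h.hyp.pq _ (h.centralizer_ne_top hz.1 (Or.inr hz.pel))
        (h.dvd_card_of_invol hz (mem_centralizer_singleton_iff.2 rfl))) (sup_le hU.le hTC) ?_ ?_
      · exact fun hd' => hU.not_dvd (hd'.trans (relIndex_dvd_of_le_left _ le_sup_left))
      · exact fun hd' => T.not_dvd_index ((hd'.trans (relIndex_dvd_of_le_left _ le_sup_right)).trans
          (relIndex_dvd_index_of_le hTC))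
    rw [← hK]
    exact sup_le hUN le_normalizer
  refine h.not_all_commute fun a b ha hb => ?_
  have hcv : ∀ v, Invol v → v * a = a * v → v * b = b * v → a * b = b * a := by
    intro v hv h1 h2
    obtain ⟨T, hT⟩ := h.exists_sylow_inv hv
    exact h.sylow_comm T
      (h.mem_of_normalizes ha.pel (hcz v hv T hT (mem_centralizer_singleton_iff.2 h1.symm)))
      (h.mem_of_normalizes hb.pel (hcz v hv T hT (mem_centralizer_singleton_iff.2 h2.symm)))
  by_contra hab
  have hy : a * (a * b) * a⁻¹ = (a * b)⁻¹ := by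
    rw [mul_inv_rev, ha.inv_eq, hb.inv_eq, ← mul_assoc, ha.2, one_mul]
  rcases h.inverted_cases ha hy with ⟨v, hv, -, hva, hvy⟩ | hyp
  · refine hab (hcv v hv hva ?_)
    have h1 : Commute v (a * (a * b)) := Commute.mul_right hva hvy
    rw [← mul_assoc, ha.2, one_mul] at h1
    exact h1
  obtain ⟨y, hy'⟩ : ∃ y, y = a * b := ⟨_, rfl⟩
  rw [← hy'] at hy hyp
  have hy1 : y ≠ 1 := fun e => hab (by
    have : b = a := by
      rw [← mul_one a, ← e, hy', ← mul_assoc, ha.2, one_mul]
    rw [this])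
  by_cases h2 : 2 ∣ Nat.card (centralizer {y} : Subgroup G)
  · obtain ⟨s, hs⟩ := exists_prime_orderOf_dvd_card' 2 h2
    have hsI : Invol (s : G) := by
      refine ⟨fun e => ?_, ?_⟩
      · rw [← orderOf_eq_one_iff, orderOf_coe, hs] at e; omega
      · have := pow_orderOf_eq_one s
        rw [hs, pow_two] at this
        exact congrArg Subtype.val this
    have hsy : (s : G) * y = y * s := mem_centralizer_singleton_iff.1 s.2
    obtain ⟨T, hT⟩ := h.exists_sylow_inv hsI
    refine h.inverted_full hyp hy1 (T := T) (h.fix_cent hyp T.2 ?_ hT hsI.1 hsy.symm) ha hy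
    exact hcz _ hsI T hT (mem_centralizer_singleton_iff.2 hsy.symm)
  obtain ⟨P, hyP⟩ := hyp.exists_sylow
  have hCP : centralizer {y} = (P : Subgroup G) :=
    P.3 (h.odd_isPGroup ha h2 (mem_normalizer_centralizer hy)) (h.le_centralizer P hyP)
  have haP : a ∈ normalizer ((P : Subgroup G) : Set G) := hCP ▸ mem_normalizer_centralizer hy
  have hinv : ∀ c ∈ (P : Subgroup G), a * c * a⁻¹ = c⁻¹ := by
    refine eq_of_mul_self (fun _ hu _ hv => h.psylow_comm P hu hv) ha.2
      (fun u hu => (mem_normalizer_iff.1 haP u).1 hu) fun c hc hac => ?_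
    by_contra hc1
    obtain ⟨T, hT⟩ := h.exists_sylow_inv ha
    have hcT := h.fix_cent (pel_of_mem P.2 hc) T.2
      (hcz a ha T hT (mem_centralizer_singleton_iff.2 hac.symm)) hT ha.1 hac.symm
    have hyN : y ∈ normalizer ((T : Subgroup G) : Set G) :=
      h.full_cent (pel_of_mem P.2 hc) hc1 hcT (h.le_centralizer P hc hyP)
    have h3 : y * a * y⁻¹ ∈ T := (mem_normalizer_iff.1 hyN a).1 hT
    have h4 : y * a * y⁻¹ * a⁻¹ = y * y := by
      rw [← hy, ha.inv_eq]
      calc y * a * (a * y * a) * a = y * (a * a) * y * (a * a) := by group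
        _ = y * y := by rw [ha.2]; group
    have h5 : y * y ∈ T := h4 ▸ mul_mem h3 (inv_mem hT)
    have h6 := inf_sylow_eq_bot h.ne2 P.2 T.2 (mul_mem hyP hyP) h5
    refine hy1 (hyp.eq_one_of_coprime ?_)
    exact Nat.Coprime.coprime_dvd_left (orderOf_dvd_of_pow_eq_one (by rwa [pow_two]))
      ((Nat.coprime_primes Nat.prime_two hp.out).2 (Ne.symm h.ne2))
  obtain ⟨P0, hP0⟩ := hd.exists_sylow
  obtain ⟨c, hc⟩ := MulAction.exists_smul_eq G P0 P
  have hdP : c * d * c⁻¹ ∈ P := hc ▸ conj_mem_smul hP0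
  refine h.inverted_full (hd.conj c) (fun e => hd1 (conj_eq_one_iff.1 e)) (T := c • T0) ?_ ha
    (hinv _ hdP)
  intro x hx
  obtain ⟨u, hu, rfl⟩ := of_mem_smul hx
  calc c * d * c⁻¹ * (c * u * c⁻¹) = c * (d * u) * c⁻¹ := by group
    _ = c * u * c⁻¹ * (c * d * c⁻¹) := by rw [hdT u hu]; group

end Two

end Cfsg.Agent.QMixed
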