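import Cfsg.Agent.Lib.FGStruct.QMixed.CaseI

/-!
Case two: no nontrivial `p`-element centralizes a Sylow `2`-subgroup.
-/

set_option autoImplicit false
set_option linter.style.haveILetI false
set_option linter.unusedSectionVars false

namespace Cfsg.Agent.QMixed

open Subgroup

variable {G : Type*} [Group G] [Finite G] {p : ℕ}

/-- `P` is a Sylow subgroup containing a nontrivial element centralizing `z`. -/
def Attached (z : G) (P : Sylow p G) : Prop := ∃ u, u ∈ P ∧ u ≠ 1 ∧ u * z = z * u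

namespace Two

variable (h : Two p G) [hp : Fact p.Prime]
  (hnf : ∀ d : G, PEl p d → d ≠ 1 → ∀ T : Sylow 2 G, ¬ ∀ x ∈ T, d * x = x * d)
include h hnf

theorem even_cent {u : G} {P : Sylow p G} (hu : u ∈ P) (hu1 : u ≠ 1)
    (h2 : 2 ∣ Nat.card (centralizer {u} : Subgroup G)) :
    centralizer {u} ≤ normalizer ((P : Subgroup G) : Set G) := by
  have hpu := pel_of_mem (G := G) P.2 hu
  rcases h.dich (h.centralizer_ne_top hu1 (Or.inl hpu)) h2 (h.le_centralizer P hu) with
    hall | ⟨T, hT, -⟩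
  · exact h.le_normalizer_of_all (h.le_centralizer P hu) hall
  · exact absurd (fun x hx => (mem_centralizer_singleton_iff.1 (hT hx)).symm) (hnf u hpu hu1 T)

theorem attached_cent {z : G} (hz : Invol z) {u : G} {P : Sylow p G} (hu : u ∈ P) (hu1 : u ≠ 1)
    (hc : u * z = z * u) : centralizer {u} ≤ normalizer ((P : Subgroup G) : Set G) :=
  h.even_cent hnf hu hu1
    (h.dvd_card_of_invol hz (mem_centralizer_singleton_iff.2 hc.symm))

theorem inverted_sylow {t : G} (ht : Invol t) {u : G} (hu : PEl p u) (hu1 : u ≠ 1)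
    (hy : t * u * t⁻¹ = u⁻¹) : ∃ P : Sylow p G, u ∈ P ∧
      centralizer {u} ≤ normalizer ((P : Subgroup G) : Set G) ∧
      t ∈ normalizer ((P : Subgroup G) : Set G) := by
  obtain ⟨P, hP⟩ := hu.exists_sylow
  have hC : centralizer {u} ≤ normalizer ((P : Subgroup G) : Set G) := by
    by_cases h2 : 2 ∣ Nat.card (centralizer {u} : Subgroup G)
    · exact h.even_cent hnf hP hu1 h2
    · rw [P.3 (h.odd_isPGroup ht h2 (mem_normalizer_centralizer hy)) (h.le_centralizer P hP)]
      exact le_normalizer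
  refine ⟨P, hP, hC, Sylow.smul_eq_iff_mem_normalizer.1 (h.sylow_unique hP hC ?_)⟩
  have h1 := conj_mem_smul (g := t) hP
  rw [hy] at h1
  exact inv_inv u ▸ inv_mem h1

theorem attached_unique {z : G} (hz : Invol z) {P P' : Sylow p G} (hP : Attached z P)
    (hP' : Attached z P') : P' = P := by
  obtain ⟨u, huP, hu1, huz⟩ := hP
  obtain ⟨v, hvP, hv1, hvz⟩ := hP'
  obtain ⟨U, hU⟩ := h.inv_cent hz
  obtain ⟨R, hR⟩ := hU.grp.exists_le_sylow
  have h1 := h.sylow_unique huP (h.attached_cent hnf hz huP hu1 huz)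
    (hR (hU.all u (mem_centralizer_singleton_iff.2 huz) (pel_of_mem P.2 huP)))
  have h2 := h.sylow_unique hvP (h.attached_cent hnf hz hvP hv1 hvz)
    (hR (hU.all v (mem_centralizer_singleton_iff.2 hvz) (pel_of_mem P'.2 hvP)))
  exact h2.symm.trans h1

theorem attached_smul {z : G} {P : Sylow p G} (hP : Attached z P) (g : G) :
    Attached (g * z * g⁻¹) (g • P : Sylow p G) := by
  obtain ⟨u, huP, hu1, huz⟩ := hP
  refine ⟨g * u * g⁻¹, conj_mem_smul huP, fun e => hu1 (conj_eq_one_iff.1 e), ?_⟩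
  calc g * u * g⁻¹ * (g * z * g⁻¹) = g * (u * z) * g⁻¹ := by group
    _ = g * z * g⁻¹ * (g * u * g⁻¹) := by rw [huz]; group

theorem attached_normalizes {z : G} (hz : Invol z) {P : Sylow p G} (hP : Attached z P) {a : G}
    (ha : a * z = z * a) : a ∈ normalizer ((P : Subgroup G) : Set G) := by
  refine Sylow.smul_eq_iff_mem_normalizer.1 (h.attached_unique hnf hz hP ?_)
  have h1 := h.attached_smul hnf hP a
  rwa [ha, mul_inv_cancel_right] at h1

theorem attached_inj {z w : G} (hz : Invol z) (hw : Invol w) (hzw : z * w = w * z)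
    {P : Sylow p G} (hzP : Attached z P) (hwP : Attached w P) : z = w := by
  haveI : Fact (Nat.Prime 2) := ⟨Nat.prime_two⟩
  obtain ⟨T, hzT, hwT⟩ := h.sylow_of_commute hz hw hzw
  obtain ⟨g, hg, hgT, hgz⟩ := h.mov T z hzT w hwT hz.1 hw.1
  have h1 := h.attached_smul hnf hzP g
  rw [hgz] at h1
  have hgP : g ∈ P := mem_sylow_of_normalizes hg
    (Sylow.smul_eq_iff_mem_normalizer.1 (h.attached_unique hnf hw hwP h1))
  have hc := commute_of_normalizes h.ne2 P.2 T.2 hgP hzT hgT
    (h.attached_normalizes hnf hz hzP rfl)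
  rw [hc, mul_inv_cancel_right] at hgz
  exact hgz

theorem attached_of_all (hall : ∃ z u : G, Invol z ∧ PEl p u ∧ u ≠ 1 ∧ u * z = z * u) {w : G}
    (hw : Invol w) : ∃ P : Sylow p G, Attached w P := by
  obtain ⟨z, u, hz, hu, hu1, huz⟩ := hall
  obtain ⟨P, hP⟩ := hu.exists_sylow
  obtain ⟨c, rfl⟩ := h.invol_conj hz hw
  exact ⟨c • P, h.attached_smul hnf ⟨u, hP, hu1, huz⟩ c⟩

theorem card_four (hall : ∃ z u : G, Invol z ∧ PEl p u ∧ u ≠ 1 ∧ u * z = z * u) :
    ∀ T : Sylow 2 G, Nat.card T = 4 := by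
  classical
  intro T
  obtain ⟨z, hzT, _, -, hz1, -, -⟩ := h.exists_sylow_ne T
  have hz : Invol z := ⟨hz1, h.el T z hzT⟩
  obtain ⟨P, u0, hu0, hu01, hu0z⟩ := h.attached_of_all hnf hall hz
  obtain ⟨U, hU⟩ := h.inv_cent hz
  obtain ⟨R, hR⟩ := hU.grp.exists_le_sylow
  have key : ∀ S : Finset G, (∀ s ∈ S, s ∈ T) → ∃ u ∈ U, u ≠ 1 ∧
      ∀ s ∈ S, s * u * s⁻¹ = u ∨ s * u * s⁻¹ = u⁻¹ := by
    intro S
    induction S using Finset.induction_on with
    | empty =>
      intro _
      exact ⟨u0, hU.all u0 (mem_centralizer_singleton_iff.2 hu0z) (pel_of_mem P.2 hu0), hu01,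
        by simp⟩
    | insert s S _ ih =>
      intro hS
      obtain ⟨u, huU, hu1, hu⟩ := ih fun a ha => hS a (Finset.mem_insert_of_mem ha)
      have hsT := hS s (Finset.mem_insert_self s S)
      by_cases hsu : s * u * s⁻¹ = u
      · refine ⟨u, huU, hu1, fun a ha => ?_⟩
        rcases Finset.mem_insert.1 ha with rfl | ha
        exacts [Or.inl hsu, hu a ha]
      have hsi : s⁻¹ = s := inv_eq_of_mul_eq_one_right (h.el T s hsT)
      have hvU : s * u * s⁻¹ ∈ U := (mem_normalizer_iff.1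
        (hU.norm (mem_centralizer_singleton_iff.2 (h.sylow_comm T hsT hzT))) u).1 huU
      have hcm : ∀ {a b : G}, a ∈ U → b ∈ U → a * b = b * a := fun ha hb =>
        h.psylow_comm R (hR ha) (hR hb)
      refine ⟨u⁻¹ * (s * u * s⁻¹), mul_mem (inv_mem huU) hvU,
        fun e => hsu (inv_mul_eq_one.1 e).symm, fun a ha => ?_⟩
      rcases Finset.mem_insert.1 ha with rfl | ha
      · right
        calc a * (u⁻¹ * (a * u * a⁻¹)) * a⁻¹
            = a * u⁻¹ * a * u * (a⁻¹ * a⁻¹) := by group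
          _ = a * u⁻¹ * a⁻¹ * u := by rw [hsi, h.el T a hsT, mul_one]
          _ = (u⁻¹ * (a * u * a⁻¹))⁻¹ := by group
      · have hc := h.sylow_comm T (hS a (Finset.mem_insert_of_mem ha)) hsT
        have hconj : a * (s * u * s⁻¹) * a⁻¹ = s * (a * u * a⁻¹) * s⁻¹ := by
          calc a * (s * u * s⁻¹) * a⁻¹ = a * s * u * (a * s)⁻¹ := by group
            _ = s * a * u * (s * a)⁻¹ := by rw [hc]
            _ = _ := by group
        have he : a * (u⁻¹ * (s * u * s⁻¹)) * a⁻¹ =
            (a * u * a⁻¹)⁻¹ * (s * (a * u * a⁻¹) * s⁻¹) := by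
          rw [← hconj]; group
        rcases hu a ha with e | e
        · left
          rw [he, e]
        · right
          rw [he, e, inv_inv, mul_inv_rev, inv_inv, hcm (inv_mem hvU) huU]
          group
  haveI := Fintype.ofFinite G
  obtain ⟨u, huU, hu1, hu⟩ := key (Finset.univ.filter (· ∈ T)) (by simp)
  obtain ⟨Q, hQ⟩ := (pel_of_mem hU.grp huU).exists_sylow
  have huz : u * z = z * u := mem_centralizer_singleton_iff.1 (hU.le huU)
  have hfix : ∀ s ∈ T, s * u * s⁻¹ = u → s ≠ (1 : G) → s = z := fun s hs e hs1 =>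
    (h.attached_inj hnf hz ⟨hs1, h.el T s hs⟩ (h.sylow_comm T hzT hs) ⟨u, hQ, hu1, huz⟩
      ⟨u, hQ, hu1, (mul_inv_eq_iff_eq_mul.1 e).symm⟩).symm
  have h4 : Nat.card T ≤ 4 := by
    by_cases hall' : ∀ s ∈ T, s * u * s⁻¹ = u
    · refine absurd (fun x hx => (mul_inv_eq_iff_eq_mul.1 (hall' x hx)).symm)
        (hnf u (pel_of_mem hU.grp huU) hu1 T)
    push Not at hall'
    obtain ⟨s, hsT, hs⟩ := hall'
    have hsinv : s * u * s⁻¹ = u⁻¹ := (hu s (by simpa using hsT)).resolve_left hs
    have hsub : ((T : Subgroup G) : Set G) ⊆ ({1, z, s, z * s} : Finset G) := by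
      intro a ha
      simp only [Finset.coe_insert, Finset.coe_singleton, Set.mem_insert_iff,
        Set.mem_singleton_iff]
      by_cases hau : a * u * a⁻¹ = u
      · by_cases ha1 : a = 1
        · exact Or.inl ha1
        · exact Or.inr (Or.inl (hfix a ha hau ha1))
      have hainv : a * u * a⁻¹ = u⁻¹ := (hu a (by simpa using ha)).resolve_left hau
      have hfx : (a * s) * u * (a * s)⁻¹ = u := by
        calc (a * s) * u * (a * s)⁻¹ = a * (s * u * s⁻¹) * a⁻¹ := by group
          _ = (a * u * a⁻¹)⁻¹ := by rw [hsinv]; group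
          _ = u := by rw [hainv, inv_inv]
      have has : a = (a * s) * s := by rw [mul_assoc, h.el T s hsT, mul_one]
      by_cases h1 : a * s = 1
      · rw [h1, one_mul] at has
        exact Or.inr (Or.inr (Or.inl has))
      · rw [hfix _ (mul_mem ha hsT) hfx h1] at has
        exact Or.inr (Or.inr (Or.inr has))
    have := Set.ncard_le_ncard hsub (Finset.finite_toSet _)
    rw [Set.ncard_coe_finset] at this
    exact (Nat.card_coe_set_eq _).trans_le (this.trans Finset.card_le_four)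
  have := h.cT T
  have := h.three_le
  omega

theorem exists_other {z : G} (hz : Invol z) : ∃ w, Invol w ∧ w ≠ z ∧ w * z = z * w := by
  obtain ⟨T, hT⟩ := h.exists_sylow_inv hz
  obtain ⟨x, hx, y, hy, hx1, hy1, hxy⟩ := h.exists_sylow_ne T
  rcases eq_or_ne x z with rfl | hxz
  · exact ⟨y, ⟨hy1, h.el T y hy⟩, hxy.symm, h.sylow_comm T hy hx⟩
  · exact ⟨x, ⟨hx1, h.el T x hx⟩, hxz, h.sylow_comm T hx hT⟩

theorem attached_full {z : G} (hz : Invol z) {P : Sylow p G} (hP : Attached z P) {x : G}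
    (hx : x ∈ P) : x * z = z * x := by
  have hinv : ∀ w, Invol w → w ≠ z → w * z = z * w →
      ∀ a ∈ (P : Subgroup G), w * a * w⁻¹ = a⁻¹ := by
    intro w hw hwz hc
    refine eq_of_mul_self (fun _ hu _ hv => h.psylow_comm P hu hv) hw.2
      (fun u hu => (mem_normalizer_iff.1 (h.attached_normalizes hnf hz hP hc) u).1 hu)
      fun u hu huw => ?_
    by_contra hu1
    exact hwz (h.attached_inj hnf hz hw hc.symm hP ⟨u, hu, hu1, huw.symm⟩).symm
  obtain ⟨w, hw, hwz, hc⟩ := h.exists_other hnf hz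
  have hzw : Invol (z * w) := by
    refine ⟨fun e => hwz ?_, ?_⟩
    · rw [← one_mul w, ← hz.2, mul_assoc, e, mul_one]
    · calc z * w * (z * w) = z * (w * z) * w := by group
        _ = z * z * (w * w) := by rw [hc]; group
        _ = 1 := by rw [hz.2, hw.2, one_mul]
  have hne : z * w ≠ z := fun e => hw.1 (mul_left_cancel (e.trans (mul_one z).symm))
  have hc2 : z * w * z = z * (z * w) := by rw [mul_assoc, hc]
  have h1 := hinv w hw hwz hc x hx
  have h2 := hinv (z * w) hzw hne hc2 x hx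
  rw [show z * w * x * (z * w)⁻¹ = z * (w * x * w⁻¹) * z⁻¹ by group, h1, ← conj_inv, inv_inj,
    mul_inv_eq_iff_eq_mul] at h2
  exact h2.symm

theorem cent_unique {z w : G} (hz : Invol z) (hw : Invol w) {P : Sylow p G}
    (hzP : Attached z P) (hwP : Attached w P) : z = w := by
  by_cases hc : z * w = w * z
  · exact h.attached_inj hnf hz hw hc hzP hwP
  have hy : z * (z * w) * z⁻¹ = (z * w)⁻¹ := by
    rw [mul_inv_rev, hz.inv_eq, hw.inv_eq, ← mul_assoc, hz.2, one_mul]
  obtain ⟨u, hu, hu1, huz⟩ := id hzP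
  have hcent : ∀ x ∈ (P : Subgroup G), (z * w) * x = x * (z * w) := fun x hx => by
    rw [mul_assoc, ← h.attached_full hnf hw hwP hx, ← mul_assoc, ← h.attached_full hnf hz hzP hx,
      mul_assoc]
  rcases h.inverted_cases hz hy with ⟨v, hv, hvy, hvz, hvzw⟩ | hyp
  · have hvu : u * v = v * u := by
      obtain ⟨k, rfl⟩ := mem_zpowers_iff.1 hvy
      exact (Commute.zpow_right (Commute.symm (hcent u hu)) k).eq
    have hvP : Attached v P := ⟨u, hu, hu1, hvu⟩
    have hvw : v * w = w * v := by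
      have h1 : Commute v (z * (z * w)) := Commute.mul_right hvz hvzw
      rw [← mul_assoc, hz.2, one_mul] at h1
      exact h1
    rw [← h.attached_inj hnf hv hz hvz hvP hzP, h.attached_inj hnf hv hw hvw hvP hwP]
  · exfalso
    have hzwP : z * w ∈ P := mem_sylow_of_normalizes hyp
      (h.attached_cent hnf hz hu hu1 huz (mem_centralizer_singleton_iff.2 (hcent u hu)))
    have h1 := h.inverted_commute_one hy (h.attached_full hnf hz hzP hzwP).symm hyp
    exact hc (by rw [h1, show w = z from (inv_eq_of_mul_eq_one_right h1).symm.trans hz.inv_eq, hz.2])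

end Two

end Cfsg.Agent.QMixed
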