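import Cfsg.Agent.Lib.FGStruct.QMixed.CaseII

/-!
Case two (a): no involution centralizes a nontrivial `p`-element; double counting.
-/

set_option autoImplicit false
set_option linter.style.haveILetI false
set_option linter.unusedSectionVars false

namespace Cfsg.Agent.QMixed

open Subgroup

variable {G : Type*} [Group G] [Finite G] {p : ℕ}

theorem card_subtype_add_compl {α : Type*} [Finite α] (q : α → Prop) :
    Nat.card α = Nat.card {a // q a} + Nat.card {a // ¬ q a} := by
  classical
  rw [← Nat.card_sum]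
  exact Nat.card_congr (Equiv.sumCompl q).symm

theorem card_ne_one (H : Subgroup G) : Nat.card {y : H // y ≠ 1} = Nat.card H - 1 := by
  have h := card_subtype_add_compl (fun y : H => y = 1)
  haveI : Unique {y : H // y = 1} := ⟨⟨⟨1, rfl⟩⟩, fun a => Subtype.ext a.2⟩
  rw [Nat.card_unique (α := {y : H // y = 1})] at h
  change Nat.card {y : H // ¬ y = 1} = _
  omega

namespace Two

variable (h : Two p G) [hp : Fact p.Prime]
  (hnf : ∀ d : G, PEl p d → d ≠ 1 → ∀ T : Sylow 2 G, ¬ ∀ x ∈ T, d * x = x * d)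
  (hnone : ∀ z u : G, Invol z → PEl p u → u * z = z * u → u = 1)
include h hnf hnone

theorem cent_two {z : G} (hz : Invol z) {T : Sylow 2 G} (hT : z ∈ T) :
    centralizer {z} = (T : Subgroup G) := by
  haveI : Fact (Nat.Prime 2) := ⟨Nat.prime_two⟩
  refine T.3 ?_ fun a ha => mem_centralizer_singleton_iff.2 (h.sylow_comm T ha hT)
  rw [PBasic.isPGroup_iff_forall_coprime]
  intro x hx
  rw [← orderOf_coe] at hx
  exact Subtype.ext (hnone z x hz (h.pel_odd (h.centralizer_ne_top hz.1 (Or.inr hz.pel))
    (h.dvd_card_of_invol hz (mem_centralizer_singleton_iff.2 rfl)) x.2 hx)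
    (mem_centralizer_singleton_iff.1 x.2))

theorem cent_comm {v a b : G} (hv : Invol v) (ha : v * a = a * v) (hb : v * b = b * v) :
    a * b = b * a := by
  obtain ⟨T, hT⟩ := h.exists_sylow_inv hv
  have e := h.cent_two hnf hnone hv hT
  refine h.sylow_comm T ?_ ?_
  · exact (e ▸ mem_centralizer_singleton_iff.2 ha.symm : a ∈ (T : Subgroup G))
  · exact (e ▸ mem_centralizer_singleton_iff.2 hb.symm : b ∈ (T : Subgroup G))

theorem cent_odd {y : G} (hy : PEl p y) (hy1 : y ≠ 1) :
    ¬ 2 ∣ Nat.card (centralizer {y} : Subgroup G) := by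
  intro h2
  haveI : Fact (Nat.Prime 2) := ⟨Nat.prime_two⟩
  obtain ⟨s, hs⟩ := exists_prime_orderOf_dvd_card' 2 h2
  have hsI : Invol (s : G) := by
    refine ⟨fun e => ?_, ?_⟩
    · rw [← orderOf_eq_one_iff, orderOf_coe, hs] at e; omega
    · have := pow_orderOf_eq_one s
      rw [hs, pow_two] at this
      exact congrArg Subtype.val this
  exact hy1 (hnone s y hsI hy (mem_centralizer_singleton_iff.1 s.2).symm)

theorem inverts {t : G} (ht : Invol t) {P : Sylow p G}
    (hn : t ∈ normalizer ((P : Subgroup G) : Set G)) :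
    ∀ a ∈ (P : Subgroup G), t * a * t⁻¹ = a⁻¹ :=
  eq_of_mul_self (fun _ hu _ hv => h.psylow_comm P hu hv) ht.2
    (fun u hu => (mem_normalizer_iff.1 hn u).1 hu)
    fun u hu hut => hnone t u ht (pel_of_mem P.2 hu) hut.symm

theorem cent_eq {t : G} (ht : Invol t) {P : Sylow p G}
    (hn : t ∈ normalizer ((P : Subgroup G) : Set G)) {y : G} (hy : y ∈ P) (hy1 : y ≠ 1) :
    centralizer {y} = (P : Subgroup G) :=
  P.3 (h.odd_isPGroup ht (h.cent_odd hnf hnone (pel_of_mem P.2 hy) hy1)
    (mem_normalizer_centralizer (h.inverts hnf hnone ht hn y hy))) (h.le_centralizer P hy)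

theorem exists_ne_one (P : Sylow p G) : ∃ y ∈ P, y ≠ (1 : G) := by
  obtain ⟨y, hy, hy1⟩ := (P : Subgroup G).ne_bot_iff_exists_ne_one.1
    (P.ne_bot_of_dvd_card h.hyp.pG) |> fun ⟨a, ha⟩ => (⟨a, a.2, fun e => ha (Subtype.ext e)⟩ :
      ∃ y, y ∈ (P : Subgroup G) ∧ y ≠ (1 : G))
  exact ⟨y, hy, hy1⟩

theorem mul_mem_sylow {t u : G} (ht : Invol t) (hu : Invol u) {P : Sylow p G}
    (hn : t ∈ normalizer ((P : Subgroup G) : Set G))
    (hn' : u ∈ normalizer ((P : Subgroup G) : Set G)) : t * u ∈ P := by
  obtain ⟨y, hy, hy1⟩ := h.exists_ne_one hnf hnone P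
  show t * u ∈ (P : Subgroup G)
  rw [← h.cent_eq hnf hnone ht hn hy hy1, mem_centralizer_singleton_iff]
  have e : t * u * y * (t * u)⁻¹ = y := by
    calc t * u * y * (t * u)⁻¹ = t * (u * y * u⁻¹) * t⁻¹ := by group
      _ = y := by
        rw [h.inverts hnf hnone hu hn' y hy, h.inverts hnf hnone ht hn _ (inv_mem hy), inv_inv]
  exact mul_inv_eq_iff_eq_mul.1 e

theorem card_invol_eq : Nat.card G = Nat.card {u : G // Invol u} * (p + 1) := by
  obtain ⟨T⟩ : Nonempty (Sylow 2 G) := inferInstance
  obtain ⟨z, hzT, _, _, hz1, -, -⟩ := h.exists_sylow_ne T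
  have hz : Invol z := ⟨hz1, h.el T z hzT⟩
  let f : G ⧸ centralizer {z} → {u : G // Invol u} := fun x =>
    Quotient.liftOn' x (fun a => ⟨a * z * a⁻¹, hz.conj a⟩) (by
      intro a b hab
      rw [QuotientGroup.leftRel_apply, mem_centralizer_singleton_iff] at hab
      apply Subtype.ext
      show a * z * a⁻¹ = b * z * b⁻¹
      calc a * z * a⁻¹ = a * (z * (a⁻¹ * b)) * b⁻¹ := by group
        _ = a * (a⁻¹ * b * z) * b⁻¹ := by rw [hab]
        _ = b * z * b⁻¹ := by group)
  have hf : Function.Bijective f := by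
    refine ⟨?_, fun u => ?_⟩
    · intro x y
      induction x using QuotientGroup.induction_on with
      | _ a =>
        induction y using QuotientGroup.induction_on with
        | _ b =>
          intro hab
          have e : a * z * a⁻¹ = b * z * b⁻¹ := congrArg Subtype.val hab
          rw [QuotientGroup.eq, mem_centralizer_singleton_iff]
          calc a⁻¹ * b * z = a⁻¹ * (b * z * b⁻¹) * b := by group
            _ = a⁻¹ * (a * z * a⁻¹) * b := by rw [e]
            _ = z * (a⁻¹ * b) := by group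
    · obtain ⟨c, hc⟩ := h.invol_conj hz u.2
      exact ⟨(c : G ⧸ centralizer {z}), Subtype.ext hc⟩
  rw [← Nat.card_congr (Equiv.ofBijective f hf), card_eq_card_quotient_mul_card_subgroup
    (centralizer {z}), h.cent_two hnf hnone hz hzT, h.cT T]

theorem card_commuting {t : G} (ht : Invol t) :
    Nat.card {u : {u : G // Invol u} // (u : G) * t = t * u} = p := by
  obtain ⟨T, hT⟩ := h.exists_sylow_inv ht
  have e := h.cent_two hnf hnone ht hT
  let f : {u : {u : G // Invol u} // (u : G) * t = t * u} → {x : (T : Subgroup G) // x ≠ 1} :=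
    fun u => ⟨⟨u.1.1, e ▸ mem_centralizer_singleton_iff.2 u.2⟩,
      fun hh => u.1.2.1 (congrArg Subtype.val hh)⟩
  have hf : Function.Bijective f := by
    refine ⟨fun a b hab => Subtype.ext (Subtype.ext (congrArg (fun x => (x.1 : G)) hab)),
      fun x => ?_⟩
    exact ⟨⟨⟨(x.1 : G), fun hh => x.2 (Subtype.ext hh), h.el T x.1 x.1.2⟩,
      h.sylow_comm T x.1.2 hT⟩, rfl⟩
  rw [Nat.card_congr (Equiv.ofBijective f hf), card_ne_one, h.cT T]
  omega

theorem card_noncommuting {t : G} (ht : Invol t) :
    Nat.card {u : {u : G // Invol u} // ¬ (u : G) * t = t * u} =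
      Nat.card {P : Sylow p G // t ∈ normalizer ((P : Subgroup G) : Set G)} *
        (p ^ (Nat.card G).factorization p - 1) := by
  let f : (Σ P : {P : Sylow p G // t ∈ normalizer ((P : Subgroup G) : Set G)},
      {y : (P.1 : Subgroup G) // y ≠ 1}) → {u : {u : G // Invol u} // ¬ (u : G) * t = t * u} :=
    fun ⟨P, y⟩ =>
      have hy := h.inverts hnf hnone ht P.2 _ y.1.2
      have hy1 : (y.1 : G) ≠ 1 := fun e => y.2 (Subtype.ext e)
      have hnc : ¬ t * (y.1 : G) * t = t * (t * (y.1 : G)) := fun e => hy1 (by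
        refine h.inverted_commute_one hy ?_ (pel_of_mem P.1.2 y.1.2)
        rw [← mul_assoc, ht.2, one_mul] at e
        conv_rhs => rw [← e]
        rw [mul_assoc (t * (y.1 : G)), ht.2, mul_one])
      ⟨⟨t * (y.1 : G), fun e => hnc (by rw [e, one_mul, mul_one]), by
        rw [ht.inv_eq] at hy
        rw [← mul_assoc, hy, inv_mul_cancel]⟩, hnc⟩
  have hf : Function.Bijective f := by
    refine ⟨?_, fun u => ?_⟩
    · rintro ⟨⟨P, hP0⟩, y⟩ ⟨⟨P', hP0'⟩, y'⟩ hab
      have e : (y.1 : G) = (y'.1 : G) := mul_left_cancel (congrArg (fun x => (x.1 : G)) hab)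
      have hP : P' = P := h.sylow_unique y.1.2
        (by
          rw [h.cent_eq hnf hnone ht hP0 y.1.2 fun e1 => y.2 (Subtype.ext e1)]
          exact le_normalizer)
        (e.symm ▸ y'.1.2 : (y.1 : G) ∈ (P' : Subgroup G))
      subst hP
      exact Sigma.ext rfl (heq_of_eq (Subtype.ext (Subtype.ext e)))
    · obtain ⟨⟨u, hu⟩, hnc⟩ := u
      have hy : t * (t * u) * t⁻¹ = (t * u)⁻¹ := by
        rw [mul_inv_rev, ht.inv_eq, hu.inv_eq, ← mul_assoc, ht.2, one_mul]
      rcases h.inverted_cases ht hy with ⟨v, hv, -, hvt, hvy⟩ | hyp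
      · exfalso
        have h1 : Commute v (t * (t * u)) := Commute.mul_right hvt hvy
        rw [← mul_assoc, ht.2, one_mul] at h1
        exact hnc (h.cent_comm hnf hnone hv h1 hvt)
      have hy1 : t * u ≠ 1 := fun e => hnc (show u * t = t * u by
        rw [show u = t from (inv_eq_of_mul_eq_one_right e).symm.trans ht.inv_eq])
      obtain ⟨P, hyP, -, htP⟩ := h.inverted_sylow hnf ht hyp hy1 hy
      refine ⟨⟨⟨P, htP⟩, ⟨⟨t * u, hyP⟩, fun e => hy1 (congrArg Subtype.val e)⟩⟩, ?_⟩
      apply Subtype.ext; apply Subtype.ext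
      show t * (t * u) = u
      rw [← mul_assoc, ht.2, one_mul]
  haveI := Fintype.ofFinite {P : Sylow p G // t ∈ normalizer ((P : Subgroup G) : Set G)}
  rw [← Nat.card_congr (Equiv.ofBijective f hf), Nat.card_sigma]
  simp only [card_ne_one, Sylow.card_eq_multiplicity, Finset.sum_const, Finset.card_univ,
    smul_eq_mul, Nat.card_eq_fintype_card]

theorem case_two_a : False := by
  haveI : Fact (Nat.Prime 2) := ⟨Nat.prime_two⟩
  obtain ⟨a, b, ha, hb, hab⟩ : ∃ a b : G, Invol a ∧ Invol b ∧ a * b ≠ b * a := by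
    by_contra hcon
    push Not at hcon
    exact h.not_all_commute hcon
  set k := (Nat.card G).factorization p
  set cP := p ^ k with hcP
  -- a Sylow subgroup normalized by an involution
  obtain ⟨P0, hP0⟩ : ∃ P : Sylow p G, a ∈ normalizer ((P : Subgroup G) : Set G) := by
    by_contra hcon
    have h0 : Nat.card {P : Sylow p G // a ∈ normalizer ((P : Subgroup G) : Set G)} = 0 :=
      Nat.card_eq_zero.2 (Or.inl ⟨fun P => hcon ⟨P.1, P.2⟩⟩)
    have h1 := h.card_noncommuting hnf hnone ha
    rw [h0, zero_mul, Nat.card_eq_zero] at h1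
    rcases h1 with h1 | h1
    · exact h1.false ⟨⟨b, hb⟩, Ne.symm hab⟩
    · exact not_finite_iff_infinite.2 h1 inferInstance
  have hsm : ∀ (c : G) (P : Sylow p G) (u : G), u ∈ normalizer ((P : Subgroup G) : Set G) →
      c * u * c⁻¹ ∈ normalizer (((c • P : Sylow p G) : Subgroup G) : Set G) := by
    intro c P u hu
    refine Sylow.smul_eq_iff_mem_normalizer.1 ?_
    have hu' : u • P = P := Sylow.smul_eq_iff_mem_normalizer.2 hu
    rw [← mul_smul, inv_mul_cancel_right, mul_smul, hu']
  have hall : ∀ P : Sylow p G, ∃ t, Invol t ∧ t ∈ normalizer ((P : Subgroup G) : Set G) := by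
    intro P
    obtain ⟨c, rfl⟩ := MulAction.exists_smul_eq G P0 P
    exact ⟨_, ha.conj c, hsm c P0 a hP0⟩
  set m := Nat.card {P : Sylow p G // a ∈ normalizer ((P : Subgroup G) : Set G)}
  have hm : ∀ t : {u : G // Invol u},
      Nat.card {P : Sylow p G // (t : G) ∈ normalizer ((P : Subgroup G) : Set G)} = m := by
    intro t
    obtain ⟨c, hc⟩ := h.invol_conj ha t.2
    refine (Nat.card_congr ((MulAction.toPerm c).subtypeEquiv fun P => ?_)).symm
    constructor
    · intro hP
      rw [← hc]
      exact hsm c P a hP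
    · intro hP
      have := hsm c⁻¹ _ _ hP
      rw [← hc] at this
      simpa [mul_assoc] using this
  have hN : ∀ P : Sylow p G, Nat.card (normalizer ((P : Subgroup G) : Set G) : Subgroup G) =
      2 * cP ∧ Nat.card {u : {u : G // Invol u} //
        (u : G) ∈ normalizer ((P : Subgroup G) : Set G)} = cP := by
    intro P
    obtain ⟨t, ht, htN⟩ := hall P
    have hcard : Nat.card (P : Subgroup G) = cP := Sylow.card_eq_multiplicity P
    constructor
    · set N := normalizer ((P : Subgroup G) : Set G) with hNdef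
      have h1 : cP * (P : Subgroup G).relIndex N = Nat.card N := by
        rw [← hcard]; exact PBasic.card_mul_relIndex le_normalizer
      have hpr : ¬ p ∣ (P : Subgroup G).relIndex N := fun hd =>
        P.not_dvd_index (hd.trans (relIndex_dvd_index_of_le le_normalizer))
      have h2 : 2 ∣ Nat.card N := h.dvd_card_of_invol ht htN
      have hpq := h.hyp.pq N (h.sylow_normalizer_ne_top P) h2
      obtain ⟨c, hc⟩ : ∃ c, (P : Subgroup G).relIndex N = 2 ^ c := by
        refine ⟨_, Nat.eq_prime_pow_of_unique_prime_dvd (fun e => ?_) ?_⟩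
        · rw [e, mul_zero] at h1; exact Nat.card_pos.ne' h1.symm
        · intro r hr hrd
          exact (hpq r hr (hrd.trans (relIndex_dvd_card _ _))).resolve_left fun e => hpr (e ▸ hrd)
      obtain ⟨S, hS⟩ := Sylow.exists_subgroup_card_pow_prime (G := N) 2 (n := c) (by
        rw [← hc, ← h1]; exact dvd_mul_left _ _)
      have hS2 : IsPGroup 2 S := IsPGroup.of_card hS
      obtain ⟨T, hT⟩ := (hS2.map N.subtype).exists_le_sylow
      have hS' : Nat.card S ≤ 2 := by
        have hle : ∀ x y : S, x ≠ 1 → y ≠ 1 → x = y := by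
          intro x y hx hy
          have hxT : ((x : N) : G) ∈ T := hT ⟨(x : N), x.2, rfl⟩
          have hyT : ((y : N) : G) ∈ T := hT ⟨(y : N), y.2, rfl⟩
          have hxI : Invol ((x : N) : G) :=
            ⟨fun e => hx (Subtype.ext (Subtype.ext e)), h.el T _ hxT⟩
          have hyI : Invol ((y : N) : G) :=
            ⟨fun e => hy (Subtype.ext (Subtype.ext e)), h.el T _ hyT⟩
          have h3 := inf_sylow_eq_bot h.ne2 P.2 T.2
            (h.mul_mem_sylow hnf hnone hxI hyI (x : N).2 (y : N).2) (mul_mem hxT hyT)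
          exact Subtype.ext (Subtype.ext
            (by rw [← inv_eq_of_mul_eq_one_right h3, hxI.inv_eq]))
        classical
        refine (Nat.card_le_card_of_injective (β := Bool) (fun a => decide (a = 1))
          fun x y hxy => ?_).trans (by simp)
        simp only [decide_eq_decide] at hxy
        rcases eq_or_ne x 1 with e | e
        · rw [e, hxy.1 e]
        · exact hle x y e fun e' => e (hxy.2 e')
      rw [hS, ← hc] at hS'
      have h2' : (P : Subgroup G).relIndex N ≠ 1 := fun e => by
        have htP := relIndex_eq_one.1 e htN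
        exact ht.1 ((pel_of_mem P.2 htP).eq_one_of_coprime (by
          rw [orderOf_eq_prime (by rw [pow_two]; exact ht.2) ht.1]
          exact (Nat.coprime_primes Nat.prime_two hp.out).2 (Ne.symm h.ne2)))
      have h0 : (P : Subgroup G).relIndex N ≠ 0 := by rw [hc]; positivity
      rw [← h1, show (P : Subgroup G).relIndex N = 2 by omega, mul_comm]
    · let f : {u : {u : G // Invol u} // (u : G) ∈ normalizer ((P : Subgroup G) : Set G)} →
          (P : Subgroup G) := fun u => ⟨t * u.1.1, h.mul_mem_sylow hnf hnone ht u.1.2 htN u.2⟩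
      have hf : Function.Bijective f := by
        refine ⟨fun x y hxy => Subtype.ext (Subtype.ext (mul_left_cancel (congrArg Subtype.val hxy))),
          fun y => ?_⟩
        have hy := h.inverts hnf hnone ht htN y y.2
        rw [ht.inv_eq] at hy
        refine ⟨⟨⟨t * y, fun e => ht.1 ?_, by rw [← mul_assoc, hy, inv_mul_cancel]⟩,
          mul_mem htN (le_normalizer y.2)⟩, Subtype.ext ?_⟩
        · have h3 : t = (y : G)⁻¹ := eq_inv_of_mul_eq_one_left e
          exact (pel_of_mem P.2 (h3.symm ▸ inv_mem y.2 : t ∈ (P : Subgroup G))).eq_one_of_coprime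
            (by
              rw [orderOf_eq_prime (by rw [pow_two]; exact ht.2) ht.1]
              exact (Nat.coprime_primes Nat.prime_two hp.out).2 (Ne.symm h.ne2))
        · show t * (t * (y : G)) = y
          rw [← mul_assoc, ht.2, one_mul]
      rw [Nat.card_congr (Equiv.ofBijective f hf), hcard]
  have hdc : Nat.card (Sylow p G) * cP = Nat.card {u : G // Invol u} * m := by
    haveI := Fintype.ofFinite (Sylow p G)
    haveI := Fintype.ofFinite {u : G // Invol u}
    have e : (Σ P : Sylow p G, {u : {u : G // Invol u} //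
        (u : G) ∈ normalizer ((P : Subgroup G) : Set G)}) ≃
        (Σ u : {u : G // Invol u}, {P : Sylow p G //
          (u : G) ∈ normalizer ((P : Subgroup G) : Set G)}) :=
      ⟨fun x => ⟨x.2.1, x.1, x.2.2⟩, fun x => ⟨x.2.1, x.1, x.2.2⟩, fun _ => rfl, fun _ => rfl⟩
    have := Nat.card_congr e
    rw [Nat.card_sigma, Nat.card_sigma] at this
    rw [Finset.sum_congr rfl fun P _ => (hN P).2, Finset.sum_congr rfl fun u _ => hm u,
      Finset.sum_const, Finset.sum_const, smul_eq_mul, smul_eq_mul, Finset.card_univ,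
      Finset.card_univ, ← Nat.card_eq_fintype_card, ← Nat.card_eq_fintype_card] at this
    exact this
  have hG := h.card_invol_eq hnf hnone
  have hG2 : Nat.card (Sylow p G) * (2 * cP) = Nat.card G := by
    rw [Sylow.card_eq_index_normalizer P0, ← (hN P0).1, mul_comm]
    exact card_mul_index _
  have hI : Nat.card {u : G // Invol u} = p + m * (cP - 1) := by
    rw [card_subtype_add_compl (fun u : {u : G // Invol u} => (u : G) * a = a * u),
      h.card_commuting hnf hnone ha, h.card_noncommuting hnf hnone ha]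
  set I := Nat.card {u : G // Invol u}
  have hIpos : 0 < I := @Nat.card_pos _ ⟨⟨a, ha⟩⟩ _
  have h2m : 2 * m = p + 1 := by
    apply Nat.eq_of_mul_eq_mul_left hIpos
    calc I * (2 * m) = 2 * (I * m) := by ring
      _ = 2 * (Nat.card (Sylow p G) * cP) := by rw [hdc]
      _ = Nat.card G := by rw [← hG2]; ring
      _ = I * (p + 1) := hG
  have hdvd : cP ∣ I * (p + 1) := hG ▸ hG2 ▸ ⟨2 * Nat.card (Sylow p G), by ring⟩
  have hcop : cP.Coprime (p + 1) := Nat.Coprime.pow_left _ (by simp)
  have hd := hcop.dvd_of_dvd_mul_right hdvd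
  have hk : p ≤ cP := Nat.le_of_dvd (pow_pos hp.out.pos _)
    (dvd_pow_self p (hp.out.factorization_pos_of_dvd Nat.card_pos.ne' h.hyp.pG).ne')
  have h2I : 2 * I + 1 = p + (p + 1) * cP := by
    obtain ⟨c, hc⟩ : ∃ c, cP = c + 1 := ⟨cP - 1, by have := h.three_le; omega⟩
    rw [hI, hc, Nat.add_sub_cancel, mul_add, ← mul_assoc, h2m]
    ring
  have hd2 : cP ∣ p - 1 := by
    have hd3 : cP ∣ 2 * I := Dvd.dvd.mul_left hd 2
    rw [show 2 * I = p - 1 + (p + 1) * cP by have := h.three_le; omega] at hd3
    exact (Nat.dvd_add_left (dvd_mul_left cP (p + 1))).1 hd3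
  have := Nat.le_of_dvd (by have := h.three_le; omega) hd2
  have := h.three_le
  omega

end Two

end Cfsg.Agent.QMixed
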