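import Cfsg.Agent.Lib.FGStruct.QMixed.Count

/-!
Case two (b): every involution centralizes a Sylow `p`-subgroup; the commuting graph is a
friendship graph.
-/

set_option autoImplicit false
set_option linter.style.haveILetI false
set_option linter.unusedSectionVars false

namespace Cfsg.Agent.QMixed

open Subgroup

variable {G : Type*} [Group G] [Finite G] {p : ℕ}

namespace Two

variable (h : Two p G) [hp : Fact p.Prime]
  (hnf : ∀ d : G, PEl p d → d ≠ 1 → ∀ T : Sylow 2 G, ¬ ∀ x ∈ T, d * x = x * d)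
  (hall : ∃ z u : G, Invol z ∧ PEl p u ∧ u ≠ 1 ∧ u * z = z * u)
include h hnf hall

theorem invol_mul {a b : G} (ha : Invol a) (hb : Invol b) (hab : a * b = b * a) (hne : a ≠ b) :
    Invol (a * b) := by
  refine ⟨fun e => hne ?_, ?_⟩
  · rw [← mul_one a, ← hb.2, ← mul_assoc, e, one_mul]
  · calc a * b * (a * b) = a * (b * a) * b := by group
      _ = a * a * (b * b) := by rw [← hab]; group
      _ = 1 := by rw [ha.2, hb.2, one_mul]

theorem eq_mul_of_commute {a b c : G} (ha : Invol a) (hb : Invol b) (hc : Invol c)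
    (hab : a * b = b * a) (hca : c * a = a * c) (hcb : c * b = b * c) (hne : a ≠ b)
    (hac : c ≠ a) (hbc : c ≠ b) : c = a * b := by
  haveI : Fact (Nat.Prime 2) := ⟨Nat.prime_two⟩
  obtain ⟨T, hT⟩ : ∃ T : Sylow 2 G, a ∈ T ∧ b ∈ T ∧ c ∈ T := by
    have h1 : IsPGroup 2 ↥(zpowers a ⊔ zpowers b) := by
      obtain ⟨T, hTa, hTb⟩ := h.sylow_of_commute ha hb hab
      exact T.2.to_le (sup_le (zpowers_le.2 hTa) (zpowers_le.2 hTb))
    have hn : zpowers a ⊔ zpowers b ≤ normalizer (zpowers c : Set G) := by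
      have key : ∀ x, c * x = x * c → x ∈ normalizer (zpowers c : Set G) := fun x hx => by
        refine mem_normalizer_of_conj_mem fun y hy => ?_
        obtain ⟨k, rfl⟩ := mem_zpowers_iff.1 hy
        have h2 : Commute x c := hx.symm
        rw [(h2.zpow_right k).eq, mul_inv_cancel_right]
        exact zpow_mem (mem_zpowers c) k
      exact sup_le (zpowers_le.2 (key a hca)) (zpowers_le.2 (key b hcb))
    obtain ⟨T, hT⟩ := (IsPGroup.to_sup_of_normal_right' h1 hc.pel.isPGroup hn).exists_le_sylow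
    exact ⟨T, hT (mem_sup_left (mem_sup_left (mem_zpowers a))),
      hT (mem_sup_left (mem_sup_right (mem_zpowers b))), hT (mem_sup_right (mem_zpowers c))⟩
  classical
  have hT4 := h.card_four hnf hall T
  have hab' := h.invol_mul hnf hall ha hb hab hne
  have hsub : (({1, a, b, a * b} : Finset G) : Set G) ⊆ ((T : Subgroup G) : Set G) := by
    simp only [Finset.coe_insert, Finset.coe_singleton, Set.insert_subset_iff,
      Set.singleton_subset_iff]
    exact ⟨one_mem _, hT.1, hT.2.1, mul_mem hT.1 hT.2.1⟩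
  have hcard : ({1, a, b, a * b} : Finset G).card = 4 := by
    repeat' rw [Finset.card_insert_of_notMem]
    · simp
    all_goals simp [ha.1.symm, hb.1.symm, hab'.1.symm, hne, ha.1, hb.1]
  have he := Set.eq_of_subset_of_ncard_le hsub (by
    rw [Set.ncard_coe_finset, hcard]
    exact ((Nat.card_coe_set_eq _).symm.trans hT4).le) (Set.toFinite _)
  have hcT : c ∈ (({1, a, b, a * b} : Finset G) : Set G) := he ▸ hT.2.2
  simp only [Finset.coe_insert, Finset.coe_singleton, Set.mem_insert_iff,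
    Set.mem_singleton_iff] at hcT
  rcases hcT with e | e | e | e
  exacts [absurd e hc.1, absurd e hac, absurd e hbc, e]

theorem exists_attached_inv (P : Sylow p G) : ∃ v, Invol v ∧ Attached v P := by
  obtain ⟨z, u, hz, hu, hu1, huz⟩ := hall
  obtain ⟨P0, hP0⟩ := hu.exists_sylow
  obtain ⟨c, rfl⟩ := MulAction.exists_smul_eq G P0 P
  exact ⟨_, hz.conj c, h.attached_smul hnf ⟨u, hP0, hu1, huz⟩ c⟩

theorem common_neighbour {a b : G} (ha : Invol a) (hb : Invol b) (hab : a * b ≠ b * a) :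
    ∃! s : {u : G // Invol u}, (a ≠ s.1 ∧ a * s.1 = s.1 * a) ∧ (b ≠ s.1 ∧ b * s.1 = s.1 * b) := by
  haveI : Fact (Nat.Prime 2) := ⟨Nat.prime_two⟩
  obtain ⟨y, hy'⟩ : ∃ y, y = a * b := ⟨_, rfl⟩
  have hy : a * y * a⁻¹ = y⁻¹ := by
    rw [hy', mul_inv_rev, ha.inv_eq, hb.inv_eq, ← mul_assoc, ha.2, one_mul]
  have hbay : b = a * y := by rw [hy', ← mul_assoc, ha.2, one_mul]
  have hay : a * y ≠ y * a := fun e => hab (by
    rw [hbay]
    calc a * (a * y) = a * (y * a) := by rw [e]
      _ = a * y * a := (mul_assoc _ _ _).symm)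
  have hp' : p ∣ orderOf y := by
    by_contra hnd
    have hy2 : PEl 2 y := ⟨_, Nat.eq_prime_pow_of_unique_prime_dvd (orderOf_pos y).ne'
      fun {r} hr hrd => (h.inverted_dvd ha hy hr hrd).resolve_left fun e => hnd (e ▸ hrd)⟩
    obtain ⟨T, hT⟩ := (IsPGroup.to_sup_of_normal_right' ha.pel.isPGroup hy2.isPGroup
      (zpowers_le.2 (mem_normalizer_zpowers hy))).exists_le_sylow
    exact hay (h.sylow_comm T (hT (mem_sup_left (mem_zpowers a))) (hT (mem_sup_right (mem_zpowers y))))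
  obtain ⟨w, hwy, hwpow, hwp, hw1, hwa⟩ : ∃ w, w * y = y * w ∧ (∀ c, Commute c y → w * c = c * w) ∧ PEl p w ∧ w ≠ 1 ∧ a * w * a⁻¹ = w⁻¹ := by
    have ho : orderOf (y ^ (orderOf y / p)) = p := orderOf_pow_orderOf_div (orderOf_pos y).ne' hp'
    refine ⟨_, (Commute.pow_self y _).eq, fun c hc => (hc.pow_right _).eq.symm, ⟨1, by rw [ho, pow_one]⟩, fun e => ?_, inverted_pow hy _⟩
    rw [e, orderOf_one] at ho
    exact hp.out.ne_one ho.symm
  have hwb : b * w * b⁻¹ = w⁻¹ := by
    calc b * w * b⁻¹ = a * (y * w * y⁻¹) * a⁻¹ := by rw [hbay]; group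
      _ = w⁻¹ := by rw [← hwy, mul_inv_cancel_right, hwa]
  obtain ⟨P, hwP, hC, haP⟩ := h.inverted_sylow hnf ha hwp hw1 hwa
  have hbP : b ∈ normalizer ((P : Subgroup G) : Set G) := by
    rw [hbay]
    exact mul_mem haP (hC (mem_centralizer_singleton_iff.2 hwy.symm))
  obtain ⟨v, hv, hvP⟩ := h.exists_attached_inv hnf hall P
  have key : ∀ g, g ∈ normalizer ((P : Subgroup G) : Set G) → g * v = v * g := by
    intro g hg
    have h1 := h.attached_smul hnf hvP g
    rw [Sylow.smul_eq_iff_mem_normalizer.2 hg] at h1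
    exact mul_inv_eq_iff_eq_mul.1 (h.cent_unique hnf (hv.conj g) hv h1 hvP)
  have hwv : w * v = v * w := h.attached_full hnf hv hvP hwP
  have hne : ∀ c, c * w * c⁻¹ = w⁻¹ → c ≠ v := by
    rintro c hc rfl
    exact hw1 (h.inverted_commute_one hc hwv.symm hwp)
  refine ⟨⟨v, hv⟩, ⟨⟨hne a hwa, key a haP⟩, ⟨hne b hwb, key b hbP⟩⟩, ?_⟩
  rintro ⟨c, hc⟩ ⟨⟨-, hac⟩, ⟨-, hbc⟩⟩
  have hcy : Commute c y := by
    rw [hy']
    exact Commute.mul_right hac.symm hbc.symm
  have hcw : w * c = c * w := hwpow c hcy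
  obtain ⟨P', hP'⟩ := hwp.exists_sylow
  have hPP : P' = P := h.sylow_unique hwP hC hP'
  subst hPP
  exact Subtype.ext (h.cent_unique hnf hc hv ⟨w, hwP, hw1, hcw⟩ hvP)

theorem case_two_b : False := by
  classical
  haveI := Fintype.ofFinite {u : G // Invol u}
  obtain ⟨z, u, hz, hu, hu1, huz⟩ := id hall
  obtain ⟨P, hP⟩ := hu.exists_sylow
  have hzP : Attached z P := ⟨u, hP, hu1, huz⟩
  let R : {u : G // Invol u} → {u : G // Invol u} → Prop := fun a b => a.1 ≠ b.1 ∧ a.1 * b.1 = b.1 * a.1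
  haveI : Nonempty {u : G // Invol u} := ⟨⟨z, hz⟩⟩
  set d := (Finset.univ.filter (R ⟨z, hz⟩)).card with hd
  have hd3 : 3 ≤ d := by
    obtain ⟨b, hb, hbz, hbc⟩ := h.exists_other hnf hz
    have hzb : Invol (z * b) := h.invol_mul hnf hall hz hb hbc.symm hbz.symm
    have hb' := fun c hc => h.attached_normalizes hnf hz hzP (a := c) hc
    have hinv : b * u * b⁻¹ = u⁻¹ := eq_of_mul_self
      (fun _ hx _ hy => h.psylow_comm P hx hy) hb.2
      (fun x hx => (mem_normalizer_iff.1 (hb' b hbc) x).1 hx)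
      (fun x hx hxb => by
        by_contra hx1
        exact hbz (h.attached_inj hnf hz hb hbc.symm hzP ⟨x, hx, hx1, hxb.symm⟩).symm) u hP
    have hub : Invol (u * b) := by
      refine ⟨fun e => ?_, ?_⟩
      · have h3 : b = u⁻¹ := (inv_eq_of_mul_eq_one_right e).symm
        exact hb.1 ((hu.of_mem_zpowers (h3 ▸ inv_mem (mem_zpowers u))).eq_one_of_coprime (by
          rw [orderOf_eq_prime (by rw [pow_two]; exact hb.2) hb.1]
          exact (Nat.coprime_primes Nat.prime_two hp.out).2 (Ne.symm h.ne2)))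
      · rw [hb.inv_eq] at hinv
        rw [show u * b * (u * b) = u * (b * u * b) by group, hinv, mul_inv_cancel]
    have hubz : u * b * z = z * (u * b) := by rw [mul_assoc, hbc, ← mul_assoc, huz, mul_assoc]
    have hne1 : z * b ≠ z := fun e => hb.1 (mul_left_cancel (e.trans (mul_one z).symm))
    have hne2 : u * b ≠ z := fun e => hbz (by
      have h1 : u = z * b := by rw [← e, mul_assoc, hb.2, mul_one]
      have h2 : u = 1 := (h1 ▸ hzb.pel : PEl 2 u) |> fun h2 => hu.eq_one_of_coprime (by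
        obtain ⟨k, hk⟩ := h2
        rw [hk]
        exact ((Nat.coprime_primes Nat.prime_two hp.out).2 (Ne.symm h.ne2)).pow_left k)
      exact absurd h2 hu1)
    have hne3 : u * b ≠ b := fun e => hu1 (by simpa using e)
    have hne4 : u * b ≠ z * b := fun e => hu1 (by
      have h1 : u = z := mul_right_cancel e
      refine hu.eq_one_of_coprime ?_
      rw [h1, orderOf_eq_prime (by rw [pow_two]; exact hz.2) hz.1]
      exact (Nat.coprime_primes Nat.prime_two hp.out).2 (Ne.symm h.ne2))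
    have hne5 : z * b ≠ b := fun e => hz.1 (by simpa using e)
    have hsub : ({⟨b, hb⟩, ⟨z * b, hzb⟩, ⟨u * b, hub⟩} : Finset {u : G // Invol u}) ⊆
        Finset.univ.filter (R ⟨z, hz⟩) := by
      intro x hx
      simp only [Finset.mem_insert, Finset.mem_singleton] at hx
      simp only [Finset.mem_filter, Finset.mem_univ, true_and, R]
      rcases hx with rfl | rfl | rfl
      · exact ⟨hbz.symm, hbc.symm⟩
      · exact ⟨hne1.symm, by rw [mul_assoc, hbc]⟩
      · exact ⟨hne2.symm, hubz.symm⟩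
    refine le_trans ?_ (Finset.card_le_card hsub)
    rw [Finset.card_insert_of_notMem, Finset.card_insert_of_notMem, Finset.card_singleton]
    · simp [hne4.symm]
    · simp [hne5.symm, hne3.symm]
  refine friendship R (fun a b hab => ⟨hab.1.symm, hab.2.symm⟩) (fun a ha => ha.1 rfl) hd3
    (fun a => ?_) fun a b hab => ?_
  · obtain ⟨c, hc⟩ := h.invol_conj hz a.2
    let e : {u : G // Invol u} ≃ {u : G // Invol u} :=
      ⟨fun x => ⟨c * x.1 * c⁻¹, x.2.conj c⟩, fun x => ⟨c⁻¹ * x.1 * c, by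
        have := x.2.conj c⁻¹; rwa [inv_inv] at this⟩,
        fun x => Subtype.ext (by group), fun x => Subtype.ext (by group)⟩
    rw [hd]
    symm
    refine Finset.card_equiv e fun x => ?_
    simp only [Finset.mem_filter, Finset.mem_univ, true_and, R]
    show z ≠ x.1 ∧ z * x.1 = x.1 * z ↔ a.1 ≠ c * x.1 * c⁻¹ ∧ a.1 * (c * x.1 * c⁻¹) = c * x.1 * c⁻¹ * a.1
    rw [← hc]
    refine and_congr (not_congr ⟨fun e => by rw [e], fun e => ?_⟩) ⟨fun e => ?_, fun e => ?_⟩
    · exact mul_left_cancel (mul_right_cancel e)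
    · calc c * z * c⁻¹ * (c * x.1 * c⁻¹) = c * (z * x.1) * c⁻¹ := by group
        _ = _ := by rw [e]; group
    · apply mul_left_cancel (a := c)
      apply mul_right_cancel (b := c⁻¹)
      calc c * (z * x.1) * c⁻¹ = c * z * c⁻¹ * (c * x.1 * c⁻¹) := by group
        _ = _ := by rw [e]; group
  · have hab' : a.1 ≠ b.1 := fun e => hab (Subtype.ext e)
    by_cases hc : a.1 * b.1 = b.1 * a.1
    · refine ⟨⟨a.1 * b.1, h.invol_mul hnf hall a.2 b.2 hc hab'⟩, ⟨⟨?_, ?_⟩, ⟨?_, ?_⟩⟩, ?_⟩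
      · exact fun e => b.2.1 (mul_left_cancel (((mul_one a.1).trans e).symm))
      · show a.1 * (a.1 * b.1) = a.1 * b.1 * a.1
        rw [mul_assoc a.1 b.1 a.1, hc]
      · exact fun e => a.2.1 (mul_right_cancel (((one_mul b.1).trans e).symm))
      · show b.1 * (a.1 * b.1) = a.1 * b.1 * b.1
        rw [← mul_assoc, hc]
      · rintro s ⟨⟨hs1, hs2⟩, ⟨hs3, hs4⟩⟩
        exact Subtype.ext (h.eq_mul_of_commute hnf hall a.2 b.2 s.2 hc hs2.symm hs4.symm hab'
          hs1.symm hs3.symm)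
    · exact h.common_neighbour hnf hall a.2 b.2 hc

end Two

end Cfsg.Agent.QMixed
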