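import Cfsg.Agent.Lib.FGStruct.QMixed.Graph
import Mathlib.GroupTheory.SchurZassenhaus

/-!
The theorem: `p` and `q` are the only prime divisors.
-/

set_option autoImplicit false
set_option linter.style.haveILetI false

namespace Cfsg.Agent.QMixed

open Subgroup

universe u

theorem Hyp.false_of {G : Type u} [Group G] [Finite G] {p q : ℕ} (h : Hyp p q G) : False := by
  haveI := Fact.mk h.pp
  haveI := Fact.mk h.qp
  obtain ⟨rfl, hab, hcT, hel, hmov⟩ := h.two_case
  have h' : Two p G := ⟨h, hab, hcT, hel, hmov⟩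
  by_cases hnf : ∀ d : G, PEl p d → d ≠ 1 → ∀ T : Sylow 2 G, ¬ ∀ x ∈ T, d * x = x * d
  · by_cases hnone : ∀ z u : G, Invol z → PEl p u → u * z = z * u → u = 1
    · exact h'.case_two_a hnf hnone
    · push Not at hnone
      obtain ⟨z, u, hz, hu, huz, hu1⟩ := hnone
      exact h'.case_two_b hnf ⟨z, u, hz, hu, hu1, huz⟩
  · push Not at hnf
    obtain ⟨d, hd, hd1, T, hT⟩ := hnf
    exact h'.case_one hd hd1 hT

/-- The hypotheses of the theorem. -/
structure Hmix (p q : ℕ) (G : Type u) [Group G] [Finite G] : Prop where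
  pG : p ∣ Nat.card G
  qG : q ∣ Nat.card G
  mix : ∀ H : Subgroup G, H ≠ ⊤ → ¬ IsPGroup q H → q ∣ Nat.card H → p ∣ Nat.card H
  big : q ^ (Nat.card G).factorization q - 1 < p ∨
    (p = q ^ (Nat.card G).factorization q - 1 ∧ ∀ P : Sylow p G, IsMulCommutative P)

theorem qmixed {p q : ℕ} (hp : p.Prime) (hq : q.Prime) (hpq : p ≠ q) (hp2 : p ≠ 2) (n : ℕ) :
    ∀ (G : Type u) [Group G] [Finite G], Nat.card G = n → Hmix p q G →
      ∀ r : ℕ, r.Prime → r ∣ Nat.card G → r = p ∨ r = q := by
  induction n using Nat.strong_induction_on with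
  | _ n ih =>
  intro G _ _ hn hm
  haveI := Fact.mk hp
  haveI := Fact.mk hq
  by_contra hcon
  push Not at hcon
  obtain ⟨r, hr, hrd, hrp, hrq⟩ := hcon
  have hfac : (Nat.card G).factorization q ≠ 0 :=
    (hq.factorization_pos_of_dvd Nat.card_pos.ne' hm.qG).ne'
  have hpq' : ∀ H : Subgroup G, H ≠ ⊤ → q ∣ Nat.card H → PQ p q H := by
    intro H hH hqH
    by_cases hH2 : IsPGroup q H
    · obtain ⟨k, hk⟩ := IsPGroup.iff_card.1 hH2
      intro s hs hsd
      exact Or.inr ((Nat.prime_dvd_prime_iff_eq hs hq).1 (hs.dvd_of_dvd_pow (hk ▸ hsd)))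
    have hlt : Nat.card H < n := hn ▸ lt_of_le_of_ne (card_le_card_group H)
      fun e => hH ((card_eq_iff_eq_top H).1 e)
    refine fun s hs hsd => ih _ hlt H rfl ⟨hm.mix H hH hH2 hqH, hqH, fun K hK hK2 hqK => ?_, ?_⟩ s hs hsd
    · have e : Nat.card (K.map H.subtype) = Nat.card K :=
        (Nat.card_congr (K.equivMapOfInjective H.subtype H.subtype_injective).toEquiv).symm
      rw [← e]
      refine hm.mix _ (fun e' => hH ?_) (fun h2 => hK2 ?_) (e.symm ▸ hqK)
      · exact top_le_iff.1 (e' ▸ map_subtype_le K)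
      · obtain ⟨k, hk⟩ := IsPGroup.iff_card.1 h2
        exact IsPGroup.of_card (e ▸ hk)
    · have hle : (Nat.card H).factorization q ≤ (Nat.card G).factorization q :=
        (Nat.factorization_le_iff_dvd Nat.card_pos.ne' Nat.card_pos.ne').2
          (card_subgroup_dvd_card H) q
      rcases hle.lt_or_eq with hlt' | heq
      · left
        have h1 := Nat.pow_lt_pow_right hq.one_lt hlt'
        have h2 : 1 ≤ q ^ (Nat.card H).factorization q := Nat.one_le_pow _ _ hq.pos
        rcases hm.big with h3 | ⟨h3, -⟩ <;> omega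
      · rw [heq]
        rcases hm.big with h3 | ⟨h3, hab⟩
        · exact Or.inl h3
        refine Or.inr ⟨h3, fun P' => ⟨⟨fun a b => Subtype.ext (Subtype.ext ?_)⟩⟩⟩
        obtain ⟨P, hP⟩ := (P'.2.map H.subtype).exists_le_sylow
        have hc := congrArg Subtype.val ((hab P).is_comm.comm ⟨_, hP ⟨a.1, a.2, rfl⟩⟩
          ⟨_, hP ⟨b.1, b.2, rfl⟩⟩)
        simpa using hc
  have hnop : ∀ R : Subgroup G, R.Normal → IsPGroup p R → R = ⊥ := by
    intro R hRn hR
    haveI := hRn
    by_contra hne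
    obtain ⟨k, hk⟩ := IsPGroup.iff_card.1 hR
    have hmul : Nat.card G = Nat.card (G ⧸ R) * Nat.card R :=
      card_eq_card_quotient_mul_card_subgroup R
    have hcop : ∀ {s : ℕ}, s.Prime → s ≠ p → s ∣ Nat.card G → s ∣ Nat.card (G ⧸ R) := by
      intro s hs hsp hsd
      rw [hmul, hk] at hsd
      exact (hs.dvd_mul.1 hsd).resolve_right fun e =>
        hsp ((Nat.prime_dvd_prime_iff_eq hs hp).1 (hs.dvd_of_dvd_pow e))
    by_cases hpQ : p ∣ Nat.card (G ⧸ R)
    · have hlt : Nat.card (G ⧸ R) < n := by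
        rw [← hn, hmul]
        exact lt_mul_of_one_lt_right Nat.card_pos ((one_lt_card_iff_ne_bot R).2 hne)
      have hfe : (Nat.card (G ⧸ R)).factorization q = (Nat.card G).factorization q := by
        rw [hmul, Nat.factorization_mul Nat.card_pos.ne' Nat.card_pos.ne', hk,
          Nat.Prime.factorization_pow hp]
        simp [Finsupp.single_eq_of_ne, Ne.symm hpq]
      refine (ih _ hlt (G ⧸ R) rfl ⟨hpQ, hcop hq (Ne.symm hpq) hm.qG, fun H hH hH2 hqH => ?_, ?_⟩
        r hr (hcop hr hrp hrd)).elim hrp hrq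
      · set K := H.comap (QuotientGroup.mk' R)
        have hKt : K ≠ ⊤ := fun e => hH (comap_injective (QuotientGroup.mk'_surjective R)
          (e.trans (comap_top _).symm))
        have hmap : K.map (QuotientGroup.mk' R) = H :=
          map_comap_eq_self_of_surjective (QuotientGroup.mk'_surjective R) H
        have hd : Nat.card H ∣ Nat.card K := hmap ▸ card_map_dvd _ _
        have hK := hpq' K hKt (hqH.trans hd)
        by_contra hpH
        apply hH2
        refine IsPGroup.of_card (n := (Nat.card H).primeFactorsList.length)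
          (Nat.eq_prime_pow_of_unique_prime_dvd Nat.card_pos.ne' fun {s} hs hsd => ?_)
        exact (hK s hs (hsd.trans hd)).resolve_left fun e => hpH (e ▸ hsd)
      · rw [hfe]
        rcases hm.big with h3 | ⟨h3, hab⟩
        · exact Or.inl h3
        refine Or.inr ⟨h3, fun P' => ?_⟩
        obtain ⟨P, rfl⟩ := Sylow.mapSurjective_surjective (QuotientGroup.mk'_surjective R) p P'
        haveI := hab P
        rw [Sylow.coe_mapSurjective]
        infer_instance
    · obtain ⟨K, hK⟩ := exists_right_complement'_of_coprime (N := R) (by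
        rw [hk]
        exact Nat.Coprime.pow_left k ((hp.coprime_iff_not_dvd).2 (by rwa [← index_eq_card] at hpQ)))
      have hKc : Nat.card K = Nat.card (G ⧸ R) := by
        rw [← index_eq_card]; exact hK.symm.index_eq_card.symm
      have hKt : K ≠ ⊤ := fun e => by
        rw [e, card_top] at hKc; exact hpQ (hKc ▸ hm.pG)
      rcases hpq' K hKt (hKc ▸ hcop hq (Ne.symm hpq) hm.qG) r hr (hKc ▸ hcop hr hrp hrd) with e | e
      · exact hrp e
      · exact hrq e
  exact Hyp.false_of
    ⟨hp, hq, hpq, hp2, hm.pG, hm.qG, hm.big, hpq', ⟨r, hr, hrd, hrp, hrq⟩, hnop⟩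

end Cfsg.Agent.QMixed
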