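import Cfsg.Agent.Lib.FGStruct.QMixed.Basic
import Cfsg.Agent.Lib.Transfer.Abelian
import Cfsg.Agent.Lib.Transfer.Fusion

/-!
The setting of a hypothetical counterexample, and the reduction to `q = 2`, `p + 1 = |G|_2`.
-/

set_option autoImplicit false
set_option linter.style.haveILetI false
set_option linter.unusedSectionVars false

namespace Cfsg.Agent.QMixed

open Subgroup

variable {G : Type*} [Group G] [Finite G] {p q : ℕ}

/-- All prime divisors of the order of `H` are `p` or `q`. -/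
def PQ (p q : ℕ) (H : Subgroup G) : Prop :=
  ∀ r, r.Prime → r ∣ Nat.card H → r = p ∨ r = q

theorem pel_of_PQ (hp : p.Prime) {H : Subgroup G} (hH : PQ p q H) {x : G} (hx : x ∈ H)
    (hc : (orderOf x).Coprime q) (hq : q.Prime) : PEl p x := by
  refine ⟨_, Nat.eq_prime_pow_of_unique_prime_dvd (orderOf_pos x).ne' (p := p) ?_⟩
  intro r hr hrd
  rcases hH r hr (hrd.trans (orderOf_dvd_natCard H hx)) with h | h
  · exact h
  · exact absurd ((Nat.coprime_self q).1 ((Nat.Coprime.coprime_dvd_left (h ▸ hrd) hc))) hq.ne_one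

theorem PQ.mono {H K : Subgroup G} (hH : PQ p q H) (h : K ≤ H) : PQ p q K :=
  fun r hr hrd => hH r hr (hrd.trans (card_dvd_of_le h))

theorem eq_of_sylows {H K : Subgroup G} (hH : PQ p q H) (hK : K ≤ H)
    (h1 : ¬ p ∣ K.relIndex H) (h2 : ¬ q ∣ K.relIndex H) : K = H := by
  refine le_antisymm hK (relIndex_eq_one.1 ?_)
  by_contra h
  obtain ⟨r, hr, hrd⟩ := Nat.exists_prime_and_dvd h
  rcases hH r hr (hrd.trans (relIndex_dvd_card K H)) with e | e <;> subst e
  exacts [h1 hrd, h2 hrd]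

theorem card_sup_dvd {A B : Subgroup G} (h : B ≤ normalizer (A : Set G)) :
    Nat.card ↥(A ⊔ B) ∣ Nat.card A * Nat.card B := by
  haveI : (A.subgroupOf (A ⊔ B)).Normal :=
    normal_subgroupOf_of_le_normalizer (sup_le le_normalizer h)
  have h1 : (A.subgroupOf (A ⊔ B)).index = A.relIndex B := by
    have e : A.subgroupOf (A ⊔ B) ⊔ B.subgroupOf (A ⊔ B) = ⊤ := by
      rw [← subgroupOf_sup le_sup_left le_sup_right, subgroupOf_self]
    rw [← relIndex_top_right, ← e, relIndex_sup_left, relIndex_subgroupOf le_sup_right]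
  rw [← PBasic.card_mul_relIndex (le_sup_left : A ≤ A ⊔ B)]
  refine mul_dvd_mul_left _ ?_
  rw [relIndex, h1]
  exact relIndex_dvd_card A B

theorem conj_pow_injective [hp : Fact p.Prime] {g x : G} (hg : PEl p g)
    (hne : g * x ≠ x * g) {i j : ℕ} (hi : i < p) (hj : j < p)
    (h : g ^ i * x * (g ^ i)⁻¹ = g ^ j * x * (g ^ j)⁻¹) : i = j := by
  wlog hij : i ≤ j generalizing i j
  · exact (this hj hi h.symm (le_of_not_ge hij)).symm
  by_contra hne'
  obtain ⟨d, rfl⟩ := Nat.exists_eq_add_of_le hij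
  rw [pow_add, mul_inv_rev] at h
  have hd : g ^ d * x = x * g ^ d := by
    have h2 : x = g ^ d * x * (g ^ d)⁻¹ := by
      apply mul_left_cancel (a := g ^ i)
      apply mul_right_cancel (b := (g ^ i)⁻¹)
      rw [h]; group
    conv_rhs => rw [h2]
    group
  obtain ⟨k, hk⟩ := hg
  have hc : (orderOf g).Coprime d := by
    rw [hk]
    refine Nat.Coprime.pow_left k ((Nat.Prime.coprime_iff_not_dvd hp.out).2 fun hdv => ?_)
    have := Nat.le_of_dvd (by omega) hdv
    omega
  obtain ⟨m, hm⟩ := exists_pow_eq_self_of_coprime (x := g) hc.symm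
  apply hne
  have h3 : Commute (g ^ d) x := hd
  have h4 := h3.pow_left m
  rwa [hm] at h4

/-- A moved element and the fixed ones. -/
theorem moved_bound [hp : Fact p.Prime] {g x : G} (hg : PEl p g) {D : Subgroup G}
    (hgD : g ∈ normalizer (D : Set G)) (hx : x ∈ D) (hne : g * x ≠ x * g) :
    p + Nat.card {e : D // g * (e : G) = (e : G) * g} ≤ Nat.card D := by
  let f : Fin p ⊕ {e : D // g * (e : G) = (e : G) * g} → D := Sum.elim
    (fun i => ⟨g ^ (i : ℕ) * x * (g ^ (i : ℕ))⁻¹,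
      (mem_normalizer_iff.1 (pow_mem hgD i) x).1 hx⟩) (fun e => e.1)
  have hfix : ∀ (i : ℕ) (e : {e : D // g * (e : G) = (e : G) * g}),
      g ^ i * x * (g ^ i)⁻¹ ≠ ((e : D) : G) := by
    intro i e h
    apply hne
    have hc : Commute (g ^ i) ((e : D) : G) := Commute.pow_left e.2 i
    have hxe : x = ((e : D) : G) := by
      calc x = (g ^ i)⁻¹ * (g ^ i * x * (g ^ i)⁻¹) * g ^ i := by group
        _ = (g ^ i)⁻¹ * (g ^ i * ((e : D) : G)) := by rw [h, mul_assoc, ← hc.eq]
        _ = _ := by group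
    rw [hxe]
    exact e.2
  have hf : Function.Injective f := by
    rintro (i | e) (j | e') h
    · exact congrArg Sum.inl (Fin.ext (conj_pow_injective hg hne i.2 j.2 (congrArg Subtype.val h)))
    · exact absurd (congrArg Subtype.val h) (hfix i e')
    · exact absurd (congrArg Subtype.val h).symm (hfix j e)
    · exact congrArg Sum.inr (Subtype.ext h)
  have := Nat.card_le_card_of_injective f hf
  rwa [Nat.card_sum, Nat.card_fin] at this

/-- The hypotheses on a counterexample. -/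
structure Hyp (p q : ℕ) (G : Type*) [Group G] [Finite G] : Prop where
  pp : p.Prime
  qp : q.Prime
  hpq : p ≠ q
  hp2 : p ≠ 2
  pG : p ∣ Nat.card G
  qG : q ∣ Nat.card G
  big : q ^ (Nat.card G).factorization q - 1 < p ∨
    (p = q ^ (Nat.card G).factorization q - 1 ∧ ∀ P : Sylow p G, IsMulCommutative P)
  pq : ∀ H : Subgroup G, H ≠ ⊤ → q ∣ Nat.card H → PQ p q H
  extra : ∃ r, r.Prime ∧ r ∣ Nat.card G ∧ r ≠ p ∧ r ≠ q
  nop : ∀ R : Subgroup G, R.Normal → IsPGroup p R → R = ⊥

namespace Hyp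

variable (h : Hyp p q G)
include h

theorem ne_top {H : Subgroup G} (hH : ¬ p ∣ Nat.card H) : H ≠ ⊤ := by
  rintro rfl
  exact hH (by rw [card_top]; exact h.pG)

theorem no_mix {A B : Subgroup G} (hAB : B ≤ normalizer (A : Set G)) (hA : ¬ p ∣ Nat.card A)
    (hB : ¬ p ∣ Nat.card B) (hq : q ∣ Nat.card ↥(A ⊔ B)) {r : ℕ} (hr : r.Prime)
    (hrd : r ∣ Nat.card ↥(A ⊔ B)) (hrp : r ≠ p) (hrq : r ≠ q) : False := by
  have hnd : ¬ p ∣ Nat.card ↥(A ⊔ B) := fun hd =>
    (h.pp.dvd_mul.1 (hd.trans (card_sup_dvd hAB))).elim hA hB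
  rcases h.pq _ (h.ne_top hnd) hq r hr hrd with e | e
  exacts [hrp e, hrq e]

theorem not_dvd_of_isPGroup {r : ℕ} [Fact r.Prime] {A : Subgroup G} (hA : IsPGroup r A)
    (hrp : r ≠ p) : ¬ p ∣ Nat.card A := by
  obtain ⟨n, hn⟩ := IsPGroup.iff_card.1 hA
  rw [hn]
  exact fun hd => hrp ((Nat.prime_dvd_prime_iff_eq h.pp Fact.out).1 (h.pp.dvd_of_dvd_pow hd)).symm

theorem inv_trivial [Fact q.Prime] {D : Subgroup G} (hD : IsPGroup q D) (hD1 : D ≠ ⊥) {x : G}
    (hx : x ∈ normalizer (D : Set G)) (hc : (orderOf x).Coprime q) : PEl p x := by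
  refine ⟨_, Nat.eq_prime_pow_of_unique_prime_dvd (orderOf_pos x).ne' (p := p) ?_⟩
  intro r hr hrd
  by_contra hrp
  haveI := Fact.mk hr
  have hrq : r ≠ q := fun e =>
    h.qp.ne_one ((Nat.coprime_self q).1 ((Nat.Coprime.coprime_dvd_left (e ▸ hrd) hc)))
  have ho : orderOf (x ^ (orderOf x / r)) = r := orderOf_pow_orderOf_div (orderOf_pos x).ne' hrd
  refine h.no_mix (A := D) (B := zpowers (x ^ (orderOf x / r)))
    (zpowers_le.2 (pow_mem hx _)) (h.not_dvd_of_isPGroup hD (Ne.symm h.hpq))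
    ?_ ?_ hr ?_ hrp hrq
  · rw [Nat.card_zpowers, ho]
    exact fun hd => hrp ((Nat.prime_dvd_prime_iff_eq h.pp hr).1 hd).symm
  · obtain ⟨n, hn⟩ := IsPGroup.iff_card.1 hD
    refine dvd_trans ?_ (card_dvd_of_le le_sup_left)
    rw [hn]
    refine dvd_pow_self q fun e => hD1 ?_
    rw [← card_eq_one, hn, e, pow_zero]
  · refine dvd_trans ?_ (card_dvd_of_le le_sup_right)
    rw [Nat.card_zpowers, ho]

theorem inv_q [Fact q.Prime] {r : ℕ} [Fact r.Prime] (hrp : r ≠ p) (hrq : r ≠ q) {R : Subgroup G}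
    (hR : IsPGroup r R) (hR1 : R ≠ ⊥) {y : G} (hy : y ∈ normalizer (R : Set G)) (hyq : PEl q y) :
    y = 1 := by
  by_contra hne
  refine h.no_mix (A := R) (B := zpowers y) (zpowers_le.2 hy) (h.not_dvd_of_isPGroup hR hrp)
    (h.not_dvd_of_isPGroup hyq.isPGroup (Ne.symm h.hpq)) ?_ (Fact.out : r.Prime) ?_ hrp hrq
  · obtain ⟨k, hk⟩ := hyq
    refine dvd_trans ?_ (card_dvd_of_le le_sup_right)
    rw [Nat.card_zpowers, hk]
    refine dvd_pow_self q fun e => hne ?_
    rw [← orderOf_eq_one_iff, hk, e, pow_zero]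
  · obtain ⟨n, hn⟩ := IsPGroup.iff_card.1 hR
    refine dvd_trans ?_ (card_dvd_of_le le_sup_left)
    rw [hn]
    refine dvd_pow_self r fun e => hR1 ?_
    rw [← card_eq_one, hn, e, pow_zero]

theorem no_normal_q [Fact q.Prime] {D : Subgroup G} (hD : D.Normal) (hDq : IsPGroup q D) :
    D = ⊥ := by
  by_contra hne
  obtain ⟨r, hr, hrd, hrp, hrq⟩ := h.extra
  haveI := Fact.mk hr
  haveI := hD
  obtain ⟨x, hx⟩ := exists_prime_orderOf_dvd_card' r hrd
  obtain ⟨k, hk⟩ := h.inv_trivial hDq hne (x := x)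
    (by rw [normalizer_eq_top]; exact mem_top x)
    (by rw [hx]; exact (Nat.coprime_primes hr h.qp).2 hrq)
  rw [hx] at hk
  cases k with
  | zero => exact hr.ne_one (by simpa using hk)
  | succ k => exact hrp ((Nat.prime_dvd_prime_iff_eq h.pp hr).1
      (hk ▸ dvd_pow_self p k.succ_ne_zero)).symm

theorem not_hasNormalPComplement [Fact q.Prime] : ¬ Cfsg.HasNormalPComplement q G := by
  intro hc
  obtain ⟨N, hN, hcop, k, hk⟩ := PBasic.hasNormalPComplement_iff.1 hc
  haveI := hN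
  obtain ⟨r, hr, hrd, hrp, hrq⟩ := h.extra
  haveI := Fact.mk hr
  obtain ⟨R⟩ : Nonempty (Sylow r G) := inferInstance
  have hRN : (R : Subgroup G) ≤ N := by
    intro x hx
    have hi : (orderOf x).Coprime N.index := by
      obtain ⟨j, hj⟩ := pel_of_mem (G := G) R.2 hx
      rw [hj, hk]
      exact (((Nat.coprime_primes hr h.qp).2 hrq).pow_left j).pow_right k
    have h1 : (QuotientGroup.mk' N) x = 1 := orderOf_eq_one_iff.1
      (Nat.eq_one_of_dvd_coprimes hi (orderOf_map_dvd _ x) (orderOf_dvd_natCard _))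
    exact (QuotientGroup.eq_one_iff x).1 h1
  have hsup := Sylow.normalizer_sup_eq_top' R hRN
  have hind : (normalizer ((R : Subgroup G) : Set G)).index ∣ Nat.card N := by
    have h1 := PBasic.relIndex_eq_relIndex_sup (normalizer ((R : Subgroup G) : Set G)) N
    rw [show N ⊔ normalizer ((R : Subgroup G) : Set G) = ⊤ from (sup_comm _ _).trans hsup,
      relIndex_top_right] at h1
    rw [← h1]
    exact relIndex_dvd_card _ _
  have hqn : q ∣ Nat.card ↥(normalizer ((R : Subgroup G) : Set G)) := by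
    have h0 : q ∣ Nat.card ↥(normalizer ((R : Subgroup G) : Set G)) *
        (normalizer ((R : Subgroup G) : Set G)).index := by
      rw [card_mul_index]; exact h.qG
    exact (h.qp.dvd_mul.1 h0).resolve_right fun hd =>
      h.qp.ne_one ((Nat.coprime_self q).1
        (Nat.Coprime.coprime_dvd_left (hd.trans hind) hcop))
  obtain ⟨y, hy⟩ := exists_prime_orderOf_dvd_card' q hqn
  have := h.inv_q hrp hrq R.2 (R.ne_bot_of_dvd_card hrd) y.2
    ⟨1, by rw [orderOf_coe, hy, pow_one]⟩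
  rw [← orderOf_eq_one_iff, orderOf_coe, hy] at this
  exact h.qp.ne_one this

theorem two_case [Fact p.Prime] [Fact q.Prime] : q = 2 ∧ (∀ P : Sylow p G, IsMulCommutative P) ∧
    (∀ T : Sylow q G, Nat.card T = p + 1) ∧ (∀ T : Sylow q G, ∀ x ∈ T, x * x = (1 : G)) ∧
    (∀ T : Sylow q G, ∀ x ∈ T, ∀ y ∈ T, x ≠ (1 : G) → y ≠ (1 : G) →
      ∃ g, PEl p g ∧ g ∈ normalizer ((T : Subgroup G) : Set G) ∧ g * x * g⁻¹ = y) := by
  obtain ⟨D, hD, g, hg, hgc, hgn⟩ : ∃ D : Subgroup G, IsPGroup q D ∧ ∃ g ∈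
      normalizer (D : Set G), (orderOf g).Coprime q ∧ g ∉ centralizer (D : Set G) := by
    by_contra hcon
    push Not at hcon
    exact h.not_hasNormalPComplement (Fusion.hasNormalPComplement_of_frobenius hcon)
  obtain ⟨x, hxD, hne⟩ : ∃ x ∈ D, g * x ≠ x * g := by
    by_contra hcon
    push Not at hcon
    exact hgn (mem_centralizer_iff.2 fun x hx => (hcon x hx).symm)
  have hD1 : D ≠ ⊥ := fun e => hne (by rw [mem_bot.1 (e ▸ hxD : x ∈ (⊥ : Subgroup G))]; group)
  have hgp := h.inv_trivial hD hD1 hg hgc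
  obtain ⟨T0, hT0⟩ := hD.exists_le_sylow
  have hcardle : Nat.card D ≤ q ^ (Nat.card G).factorization q :=
    (card_le_of_le hT0).trans_eq (Sylow.card_eq_multiplicity T0)
  have hb : ∀ x' ∈ D, g * x' ≠ x' * g →
      p + Nat.card {e : D // g * (e : G) = (e : G) * g} ≤ q ^ (Nat.card G).factorization q :=
    fun x' hx' hn' => (moved_bound hgp hg hx' hn').trans hcardle
  have hfix1 : 1 ≤ Nat.card {e : D // g * (e : G) = (e : G) * g} :=
    @Nat.card_pos _ ⟨⟨1, by simp⟩⟩ _
  obtain ⟨hpe, hab⟩ : p = q ^ (Nat.card G).factorization q - 1 ∧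
      ∀ P : Sylow p G, IsMulCommutative P := by
    refine h.big.resolve_left fun hl => ?_
    have := hb x hxD hne
    omega
  have hqa : q ^ (Nat.card G).factorization q = p + 1 := by
    have := h.qp.pos
    have := pow_pos this ((Nat.card G).factorization q)
    omega
  have hq2 : q = 2 := by
    obtain ⟨k, hk⟩ := h.pp.odd_of_ne_two h.hp2
    have hd : 2 ∣ q ^ (Nat.card G).factorization q := ⟨k + 1, by omega⟩
    exact ((Nat.prime_dvd_prime_iff_eq Nat.prime_two h.qp).1 (Nat.prime_two.dvd_of_dvd_pow hd)).symm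
  have hcardD : Nat.card D = p + 1 := by
    have := moved_bound hgp hg hxD hne
    omega
  have hT0D : D = (T0 : Subgroup G) := eq_of_le_of_card_ge hT0 (by
    rw [hcardD, ← hqa]; exact (Sylow.card_eq_multiplicity T0).le)
  have hnf : ∀ e ∈ D, e ≠ 1 → g * e ≠ e * g := by
    intro e he he1 hc
    have h2 : 2 ≤ Nat.card {e : D // g * (e : G) = (e : G) * g} := by
      have hinj : Function.Injective (fun b : Bool => if b then
          (⟨⟨e, he⟩, hc⟩ : {e : D // g * (e : G) = (e : G) * g}) else ⟨1, by simp⟩) := by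
        intro a b hab
        cases a <;> cases b <;>
          simp [Subtype.ext_iff] at hab <;> first | rfl | exact absurd hab he1 |
            exact absurd hab.symm he1
      have := Nat.card_le_card_of_injective _ hinj
      simpa using this
    have := hb x hxD hne
    omega
  have htrans : ∀ e ∈ D, e ≠ 1 → ∀ y ∈ D, y ≠ 1 → ∃ i : ℕ, g ^ i * e * (g ^ i)⁻¹ = y := by
    intro e he he1 y hy hy1
    let f : Option (Fin p) → D := fun o => o.elim 1
      fun i => ⟨g ^ (i : ℕ) * e * (g ^ (i : ℕ))⁻¹, (mem_normalizer_iff.1 (pow_mem hg i) e).1 he⟩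
    have hne' : ∀ i : ℕ, g ^ i * e * (g ^ i)⁻¹ ≠ 1 := fun i hi => he1 (conj_eq_one_iff.1 hi)
    have hf : Function.Injective f := by
      rintro (_ | i) (_ | j) hij
      · rfl
      · exact absurd (congrArg Subtype.val hij).symm (hne' j)
      · exact absurd (congrArg Subtype.val hij) (hne' i)
      · exact congrArg some (Fin.ext
          (conj_pow_injective hgp (hnf e he he1) i.2 j.2 (congrArg Subtype.val hij)))
    obtain ⟨o, ho⟩ := (hf.bijective_of_nat_card_le (by simp [hcardD])).2 ⟨y, hy⟩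
    rcases o with _ | i
    · exact absurd (congrArg Subtype.val ho).symm hy1
    · exact ⟨i, congrArg Subtype.val ho⟩
  have helem : ∀ e ∈ D, e * e = 1 := by
    obtain ⟨w, hw⟩ := exists_prime_orderOf_dvd_card' (G := D) q
      (by
        rw [hcardD, ← hqa]
        refine dvd_pow_self q fun e => ?_
        rw [e, pow_zero] at hqa
        have := h.pp.pos
        omega)
    rw [hq2] at hw
    have hw1 : (w : G) ≠ 1 := fun e => by
      rw [← orderOf_eq_one_iff, orderOf_coe, hw] at e; omega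
    have hw2 : (w : G) * (w : G) = 1 := by
      have := pow_orderOf_eq_one w
      rw [hw, pow_two] at this
      exact congrArg Subtype.val this
    intro e he
    rcases eq_or_ne e 1 with rfl | he1
    · exact one_mul 1
    · obtain ⟨i, rfl⟩ := htrans w w.2 hw1 e he he1
      calc g ^ i * w * (g ^ i)⁻¹ * (g ^ i * w * (g ^ i)⁻¹)
          = g ^ i * ((w : G) * w) * (g ^ i)⁻¹ := by group
        _ = 1 := by rw [hw2]; group
  refine ⟨hq2, hab, fun T => ?_, fun T a ha => ?_, fun T a ha b hb ha1 hb1 => ?_⟩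
  · rw [← hqa]; exact Sylow.card_eq_multiplicity T
  · obtain ⟨c, rfl⟩ := MulAction.exists_smul_eq G T0 T
    obtain ⟨u, hu, rfl⟩ := of_mem_smul ha
    calc c * u * c⁻¹ * (c * u * c⁻¹) = c * (u * u) * c⁻¹ := by group
      _ = 1 := by rw [helem u (hT0D ▸ hu)]; group
  · obtain ⟨c, rfl⟩ := MulAction.exists_smul_eq G T0 T
    obtain ⟨u, hu, rfl⟩ := of_mem_smul ha
    obtain ⟨v, hv, rfl⟩ := of_mem_smul hb
    obtain ⟨i, hi⟩ := htrans u (hT0D ▸ hu) (fun e => ha1 (by rw [e]; group)) v (hT0D ▸ hv)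
      (fun e => hb1 (by rw [e]; group))
    refine ⟨c * g ^ i * c⁻¹, (hgp.of_mem_zpowers (pow_mem (mem_zpowers g) i)).conj c, ?_, ?_⟩
    · apply mem_normalizer_of_conj_mem
      intro a ha
      obtain ⟨w, hw, rfl⟩ := of_mem_smul ha
      have h2 : g ^ i * w * (g ^ i)⁻¹ ∈ T0 := by
        have := (mem_normalizer_iff.1 (pow_mem hg i) w).1 (hT0D ▸ hw)
        rw [hT0D] at this
        exact this
      have h3 := conj_mem_smul (g := c) h2
      have e : c * g ^ i * c⁻¹ * (c * w * c⁻¹) * (c * g ^ i * c⁻¹)⁻¹ =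
          c * (g ^ i * w * (g ^ i)⁻¹) * c⁻¹ := by group
      rw [e]; exact h3
    · rw [← hi]; group

end Hyp

end Cfsg.Agent.QMixed
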