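import Cfsg.Agent.Lib.FGStruct.QMixed.Setting

/-!
The case `q = 2`, `p + 1 = |G|₂`: local structure.
-/

set_option autoImplicit false
set_option linter.style.haveILetI false
set_option linter.unusedSectionVars false

namespace Cfsg.Agent.QMixed

open Subgroup

variable {G : Type*} [Group G] [Finite G] {p : ℕ}

/-- An involution. -/
def Invol (t : G) : Prop := t ≠ 1 ∧ t * t = 1

theorem Invol.inv_eq {t : G} (ht : Invol t) : t⁻¹ = t := inv_eq_of_mul_eq_one_right ht.2

theorem Invol.pel {t : G} (ht : Invol t) : PEl 2 t :=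
  ⟨1, by rw [pow_one]; exact orderOf_eq_prime (by rw [pow_two]; exact ht.2) ht.1⟩

theorem Invol.conj {t : G} (ht : Invol t) (g : G) : Invol (g * t * g⁻¹) :=
  ⟨fun e => ht.1 (conj_eq_one_iff.1 e), by
    rw [show g * t * g⁻¹ * (g * t * g⁻¹) = g * (t * t) * g⁻¹ by group, ht.2]; group⟩

theorem inverted_pow {t y : G} (h : t * y * t⁻¹ = y⁻¹) (k : ℕ) :
    t * y ^ k * t⁻¹ = (y ^ k)⁻¹ := by
  rw [← conj_pow, h, inv_pow]

theorem mem_normalizer_zpowers {t y : G} (h : t * y * t⁻¹ = y⁻¹) :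
    t ∈ normalizer (zpowers y : Set G) := by
  refine mem_normalizer_of_conj_mem fun x hx => ?_
  obtain ⟨k, rfl⟩ := mem_zpowers_iff.1 hx
  rw [← conj_zpow, h, inv_zpow]
  exact inv_mem (zpow_mem (mem_zpowers y) k)

theorem mem_normalizer_centralizer {t y : G} (h : t * y * t⁻¹ = y⁻¹) :
    t ∈ normalizer (centralizer {y} : Set G) := by
  refine mem_normalizer_of_conj_mem fun x hx => ?_
  rw [mem_centralizer_singleton_iff] at hx ⊢
  have hc : Commute (t * x * t⁻¹) (t * y * t⁻¹) := by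
    have h2 : Commute x y := hx
    exact h2.map (MulAut.conj t).toMonoidHom
  rw [h] at hc
  exact (Commute.inv_right_iff.1 hc).eq

/-- A subgroup normalizer has order divisible by `r` when `r` misses the normal subgroup. -/
theorem dvd_card_normalizer {s r : ℕ} [Fact s.Prime] (hr : r.Prime) {N : Subgroup G} [N.Normal]
    (R : Sylow s G) (hs : ¬ s ∣ N.index) (hrN : ¬ r ∣ Nat.card N) (hrG : r ∣ Nat.card G) :
    r ∣ Nat.card ↥(normalizer ((R : Subgroup G) : Set G)) := by
  have hRN : (R : Subgroup G) ≤ N := by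
    intro x hx
    have hi : (orderOf x).Coprime N.index := by
      obtain ⟨j, hj⟩ := pel_of_mem (G := G) R.2 hx
      rw [hj]
      exact Nat.Coprime.pow_left j ((Nat.Prime.coprime_iff_not_dvd Fact.out).2 hs)
    have h1 : (QuotientGroup.mk' N) x = 1 := orderOf_eq_one_iff.1
      (Nat.eq_one_of_dvd_coprimes hi (orderOf_map_dvd _ x) (orderOf_dvd_natCard _))
    exact (QuotientGroup.eq_one_iff x).1 h1
  have hsup := Sylow.normalizer_sup_eq_top' R hRN
  have h1 := PBasic.relIndex_eq_relIndex_sup (normalizer ((R : Subgroup G) : Set G)) N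
  rw [show N ⊔ normalizer ((R : Subgroup G) : Set G) = ⊤ from (sup_comm _ _).trans hsup,
    relIndex_top_right] at h1
  have h0 : r ∣ Nat.card ↥(normalizer ((R : Subgroup G) : Set G)) *
      (normalizer ((R : Subgroup G) : Set G)).index := by
    rw [card_mul_index]; exact hrG
  exact (hr.dvd_mul.1 h0).resolve_right fun hd => hrN (hd.trans (h1 ▸ relIndex_dvd_card _ _))

/-- The reduced hypotheses. -/
structure Two (p : ℕ) (G : Type*) [Group G] [Finite G] : Prop where
  hyp : Hyp p 2 G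
  ab : ∀ P : Sylow p G, IsMulCommutative P
  cT : ∀ T : Sylow 2 G, Nat.card T = p + 1
  el : ∀ T : Sylow 2 G, ∀ x ∈ T, x * x = (1 : G)
  mov : ∀ T : Sylow 2 G, ∀ x ∈ T, ∀ y ∈ T, x ≠ (1 : G) → y ≠ (1 : G) →
    ∃ g, PEl p g ∧ g ∈ normalizer ((T : Subgroup G) : Set G) ∧ g * x * g⁻¹ = y

/-- `U` is a normal `p`-subgroup of `H` containing all `p`-elements of `H`. -/
structure PN (p : ℕ) (H U : Subgroup G) : Prop where
  le : U ≤ H
  grp : IsPGroup p U
  norm : H ≤ normalizer (U : Set G)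
  all : ∀ x ∈ H, PEl p x → x ∈ U

theorem PN.not_dvd [hp : Fact p.Prime] {H U : Subgroup G} (hU : PN p H U) :
    ¬ p ∣ U.relIndex H := by
  obtain ⟨S⟩ : Nonempty (Sylow p H) := inferInstance
  intro hd
  refine S.not_dvd_index (hd.trans ?_)
  refine Subgroup.index_dvd_of_le (K := U.subgroupOf H) fun x hx => ?_
  exact hU.all x x.2 (pel_of_mem (S.2.map H.subtype) ⟨x, hx, rfl⟩)

namespace Two

variable (h : Two p G) [hp : Fact p.Prime]
include h

theorem three_le : 3 ≤ p := by
  have h1 := hp.out.two_le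
  have h2 := h.hyp.hp2
  omega

theorem ne2 : p ≠ 2 := h.hyp.hp2

theorem sylow_comm (T : Sylow 2 G) {x y : G} (hx : x ∈ T) (hy : y ∈ T) : x * y = y * x := by
  have h1 := h.el T x hx
  have h2 := h.el T y hy
  have h3 := h.el T (x * y) (mul_mem hx hy)
  calc x * y = (x * y)⁻¹ := (inv_eq_of_mul_eq_one_right h3).symm
    _ = y⁻¹ * x⁻¹ := mul_inv_rev x y
    _ = y * x := by rw [inv_eq_of_mul_eq_one_right h1, inv_eq_of_mul_eq_one_right h2]

theorem psylow_comm (P : Sylow p G) {x y : G} (hx : x ∈ P) (hy : y ∈ P) : x * y = y * x := by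
  have := (h.ab P).is_comm.comm ⟨x, hx⟩ ⟨y, hy⟩
  exact congrArg Subtype.val this

theorem le_centralizer (P : Sylow p G) {u : G} (hu : u ∈ P) :
    (P : Subgroup G) ≤ centralizer {u} :=
  fun _ hx => mem_centralizer_singleton_iff.2 (h.psylow_comm P hx hu)

theorem exists_sylow_ne : ∀ T : Sylow 2 G, ∃ x ∈ T, ∃ y ∈ T, x ≠ (1 : G) ∧ y ≠ (1 : G) ∧ x ≠ y := by
  intro T
  by_contra hcon
  push Not at hcon
  have h1 : ∀ a b : (T : Subgroup G), a ≠ 1 → b ≠ 1 → a = b := fun a b ha hb =>
    Subtype.ext (hcon a a.2 b b.2 (fun e => ha (Subtype.ext e)) (fun e => hb (Subtype.ext e)))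
  have h2 : Nat.card (T : Subgroup G) ≤ Nat.card Bool := by
    classical
    refine Nat.card_le_card_of_injective (fun a => decide (a = 1)) fun a b hab => ?_
    simp only [decide_eq_decide] at hab
    rcases eq_or_ne a 1 with e | e
    · rw [e, hab.1 e]
    · exact h1 a b e (fun e' => e (hab.2 e'))
  have := h.three_le
  have h3 := h.cT T
  simp at h2
  omega

/-- A `p`-element fixing a nontrivial element of a `2`-subgroup it normalizes centralizes it. -/
theorem fix_cent {g : G} (hg : PEl p g) {E : Subgroup G} (hE : IsPGroup 2 E)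
    (hgE : g ∈ normalizer (E : Set G)) {e : G} (he : e ∈ E) (he1 : e ≠ 1) (hc : g * e = e * g) :
    ∀ x ∈ E, g * x = x * g := by
  intro x hx
  by_contra hne
  have h1 := moved_bound hg hgE hx hne
  obtain ⟨T, hT⟩ := hE.exists_le_sylow
  have h2 : Nat.card E ≤ p + 1 := (card_le_of_le hT).trans_eq (h.cT T)
  have h3 : 2 ≤ Nat.card {a : E // g * (a : G) = (a : G) * g} := by
    have hinj : Function.Injective (fun b : Bool => if b then
        (⟨⟨e, he⟩, hc⟩ : {a : E // g * (a : G) = (a : G) * g}) else ⟨1, by simp⟩) := by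
      intro a b hab
      cases a <;> cases b <;>
        simp [Subtype.ext_iff] at hab <;> first | rfl | exact absurd hab he1 |
          exact absurd hab.symm he1
    have := Nat.card_le_card_of_injective _ hinj
    simpa using this
  omega

/-- A moved `2`-subgroup is a Sylow subgroup. -/
theorem moved_sylow {g : G} (hg : PEl p g) {E : Subgroup G} (hE : IsPGroup 2 E)
    (hgE : g ∈ normalizer (E : Set G)) {x : G} (hx : x ∈ E) (hne : g * x ≠ x * g) :
    ∃ T : Sylow 2 G, E = (T : Subgroup G) := by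
  obtain ⟨T, hT⟩ := hE.exists_le_sylow
  refine ⟨T, eq_of_le_of_card_ge hT ?_⟩
  have h1 := moved_bound hg hgE hx hne
  have h2 : 0 < Nat.card {e : E // g * (e : G) = (e : G) * g} := @Nat.card_pos _ ⟨⟨1, by simp⟩⟩ _
  have h3 := h.cT T
  omega

theorem centralizer_ne_top {u : G} (hu : u ≠ 1) (hpu : PEl p u ∨ PEl 2 u) :
    centralizer {u} ≠ ⊤ := by
  intro e
  have hc : ∀ x, x * u = u * x := fun x => mem_centralizer_singleton_iff.1 (e ▸ mem_top x)
  have hn : (zpowers u).Normal := ⟨fun n hn g => by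
    obtain ⟨k, rfl⟩ := mem_zpowers_iff.1 hn
    have h2 : Commute g u := hc g
    rw [(h2.zpow_right k).eq, mul_inv_cancel_right]
    exact zpow_mem (mem_zpowers u) k⟩
  rcases hpu with h' | h'
  · exact hu (zpowers_eq_bot.1 (h.hyp.nop _ hn h'.isPGroup))
  · exact hu (zpowers_eq_bot.1 (h.hyp.no_normal_q hn h'.isPGroup))

theorem sylow_normalizer_ne_top (P : Sylow p G) :
    normalizer ((P : Subgroup G) : Set G) ≠ ⊤ := fun e =>
  P.ne_bot_of_dvd_card h.hyp.pG (h.hyp.nop _ (normalizer_eq_top_iff.1 e) P.2)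

theorem pel_odd {H : Subgroup G} (hH : H ≠ ⊤) (h2 : 2 ∣ Nat.card H) {x : G} (hx : x ∈ H)
    (hc : (orderOf x).Coprime 2) : PEl p x :=
  pel_of_PQ hp.out (h.hyp.pq H hH h2) hx hc Nat.prime_two

theorem no_move {H : Subgroup G} (hH : H ≠ ⊤) (h2 : 2 ∣ Nat.card H)
    (hnm : ∀ g ∈ H, PEl p g → ∀ D : Subgroup G, D ≤ H → IsPGroup 2 D →
      g ∈ normalizer (D : Set G) → ∀ x ∈ D, g * x = x * g) :
    ∃ U, PN p H U := by
  have hc : Cfsg.HasNormalPComplement 2 H := by
    refine Fusion.hasNormalPComplement_of_frobenius fun D hD g hg hgc => ?_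
    refine mem_centralizer_iff.2 fun x hx => Subtype.ext ?_
    refine (hnm g g.2 (h.pel_odd hH h2 g.2 (by rwa [orderOf_coe])) (D.map H.subtype)
      (map_subtype_le D) (hD.map _) ?_ x ⟨x, hx, rfl⟩).symm
    refine mem_normalizer_of_conj_mem ?_
    rintro _ ⟨y, hy, rfl⟩
    exact ⟨g * y * g⁻¹, (mem_normalizer_iff.1 hg y).1 hy, rfl⟩
  haveI := PBasic.pResidual_characteristic 2 H
  refine ⟨(Cfsg.pResidual 2 H).map H.subtype, map_subtype_le _, ?_, ?_, ?_⟩
  · refine IsPGroup.iff_orderOf.2 fun x => ?_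
    obtain ⟨y, hy, hyx⟩ := x.2
    obtain ⟨k, hk⟩ := h.pel_odd hH h2 y.2
      (by rw [orderOf_coe]; exact (PBasic.mem_pResidual_iff hc).1 hy)
    exact ⟨k, by rw [← orderOf_coe, ← hyx]; exact hk⟩
  · intro a ha
    refine mem_normalizer_of_conj_mem ?_
    rintro _ ⟨y, hy, rfl⟩
    exact ⟨⟨a, ha⟩ * y * ⟨a, ha⟩⁻¹,
      Subgroup.Normal.conj_mem inferInstance y hy _, rfl⟩
  · intro x hx hxp
    refine ⟨⟨x, hx⟩, PBasic.mem_pResidual ?_, rfl⟩
    obtain ⟨k, hk⟩ := hxp
    rw [orderOf_mk, hk]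
    exact ((Nat.coprime_primes hp.out Nat.prime_two).2 h.ne2).pow_left k

theorem le_normalizer_of_all {H : Subgroup G} {P : Sylow p G} (hP : (P : Subgroup G) ≤ H)
    (hall : ∀ x ∈ H, PEl p x → x ∈ P) : H ≤ normalizer ((P : Subgroup G) : Set G) :=
  fun a ha => mem_normalizer_of_conj_mem fun x hx =>
    hall _ (mul_mem (mul_mem ha (hP hx)) (inv_mem ha)) ((pel_of_mem P.2 hx).conj a)

theorem dich {H : Subgroup G} (hH : H ≠ ⊤) (h2 : 2 ∣ Nat.card H) {P : Sylow p G}
    (hP : (P : Subgroup G) ≤ H) :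
    (∀ x ∈ H, PEl p x → x ∈ P) ∨
      ∃ T : Sylow 2 G, (T : Subgroup G) ≤ H ∧ H ≤ normalizer ((T : Subgroup G) : Set G) := by
  haveI : Fact (Nat.Prime 2) := ⟨Nat.prime_two⟩
  by_cases hnm : ∀ g ∈ H, PEl p g → ∀ D : Subgroup G, D ≤ H → IsPGroup 2 D →
      g ∈ normalizer (D : Set G) → ∀ x ∈ D, g * x = x * g
  · left
    obtain ⟨U, hU⟩ := h.no_move hH h2 hnm
    have he : U = (P : Subgroup G) :=
      P.3 hU.grp fun x hx => hU.all x (hP hx) (pel_of_mem P.2 hx)
    intro x hx hxp
    have := hU.all x hx hxp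
    rwa [he] at this
  push Not at hnm
  obtain ⟨g, hgH, hg, D, hDH, hD, hgD, x, hx, hne⟩ := hnm
  obtain ⟨T, rfl⟩ := h.moved_sylow hg hD hgD hx hne
  right
  refine ⟨T, hDH, ?_⟩
  set P' : Sylow p H := P.subtype hP with hP'
  have habP : IsMulCommutative P' := ⟨⟨fun a b => by
    refine Subtype.ext (Subtype.ext ?_)
    exact h.psylow_comm P (x := ((a : H) : G)) (y := ((b : H) : G))
      (by have := a.2; exact mem_subgroupOf.1 this) (by have := b.2; exact mem_subgroupOf.1 this)⟩⟩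
  have hnpc : Cfsg.HasNormalPComplement p H := by
    refine AbelianSylow.hasNormalPComplement_of_abelian P' habP fun a ha hac => ?_
    by_cases ha1 : a = 1
    · rw [ha1]; exact one_mem _
    exfalso
    have hnp : Nat.card (Sylow p H) = 1 := by
      set N := normalizer ((P' : Subgroup H) : Set H) with hN
      have hcN : Nat.card (Sylow p H) = N.index := Sylow.card_eq_index_normalizer P'
      have e1 : (P' : Subgroup H).relIndex N * N.index = (P' : Subgroup H).index :=
        relIndex_mul_index le_normalizer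
      have hpi : ¬ p ∣ (P' : Subgroup H).index := P'.not_dvd_index
      have hpq := h.hyp.pq H hH h2
      have hidx : ∃ c, (P' : Subgroup H).index = 2 ^ c := by
        refine ⟨_, Nat.eq_prime_pow_of_unique_prime_dvd index_ne_zero_of_finite ?_⟩
        intro r hr hrd
        exact (hpq r hr (hrd.trans (index_dvd_card _))).resolve_left fun e => hpi (e ▸ hrd)
      have hle : (P' : Subgroup H).index ≤ p + 1 := by
        obtain ⟨c, hc⟩ := hidx
        rw [hc, ← h.cT T, Sylow.card_eq_multiplicity T]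
        refine Nat.pow_le_pow_right (by norm_num)
          ((Nat.prime_two.pow_dvd_iff_le_factorization Nat.card_pos.ne').1 ?_)
        rw [← hc]
        exact (index_dvd_card _).trans (card_subgroup_dvd_card H)
      have hr1 : (P' : Subgroup H).relIndex N ≠ 1 := fun e => by
        have haP := relIndex_eq_one.1 e ha
        exact ha1 (PBasic.eq_one_of_isPGroup_of_coprime P'.2 haP hac)
      have hr0 : (P' : Subgroup H).relIndex N ≠ 0 := fun e => by
        rw [e, zero_mul] at e1; exact index_ne_zero_of_finite e1.symm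
      have h5 : 2 * N.index ≤ p + 1 := by
        refine le_trans ?_ (e1.le.trans hle)
        exact Nat.mul_le_mul_right _ (by omega)
      have hmod : Nat.card (Sylow p H) % p = 1 := by
        have := card_sylow_modEq_one p H
        unfold Nat.ModEq at this
        rwa [Nat.mod_eq_of_lt (a := 1) hp.out.one_lt] at this
      have := h.three_le
      rwa [Nat.mod_eq_of_lt (by omega)] at hmod
    haveI : Subsingleton (Sylow p H) := (Nat.card_eq_one_iff_unique.1 hnp).1
    have hPn : (P' : Subgroup H).Normal := P'.normal_of_subsingleton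
    have hHP : H ≤ normalizer ((P : Subgroup G) : Set G) := fun b hb =>
      mem_normalizer_of_conj_mem fun y hy => by
        have := hPn.conj_mem ⟨y, hP hy⟩ (mem_subgroupOf.2 hy) ⟨b, hb⟩
        exact mem_subgroupOf.1 this
    exact hne (commute_of_normalizes h.ne2 P.2 T.2 (mem_sylow_of_normalizes hg (hHP hgH)) hx hgD
      (hHP (hDH hx)))
  haveI := PBasic.pResidual_characteristic p H
  have hN2 : IsPGroup 2 ((Cfsg.pResidual p H).map H.subtype) := by
    refine IsPGroup.iff_orderOf.2 fun x => ?_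
    obtain ⟨y, hy, hyx⟩ := x.2
    refine ⟨_, Nat.eq_prime_pow_of_unique_prime_dvd (orderOf_pos x).ne' (p := 2) ?_⟩
    intro r hr hrd
    have hord : orderOf x = orderOf y := by
      rw [← orderOf_coe, ← hyx]; exact orderOf_coe y
    rw [hord] at hrd
    refine ((h.hyp.pq H hH h2) r hr (hrd.trans (orderOf_dvd_natCard y))).resolve_left fun e => ?_
    subst e
    exact hp.out.ne_one ((Nat.coprime_self r).1
      ((PBasic.mem_pResidual_iff hnpc).1 hy |>.coprime_dvd_left hrd))
  have hTN : (T : Subgroup G) ≤ (Cfsg.pResidual p H).map H.subtype := fun y hy => by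
    refine ⟨⟨y, hDH hy⟩, PBasic.mem_pResidual ?_, rfl⟩
    obtain ⟨k, hk⟩ := pel_of_mem T.2 hy
    rw [orderOf_mk, hk]
    exact ((Nat.coprime_primes Nat.prime_two hp.out).2 (Ne.symm h.ne2)).pow_left k
  have he := T.3 hN2 hTN
  intro b hb
  refine mem_normalizer_of_conj_mem fun y hy => ?_
  rw [← he] at hy ⊢
  obtain ⟨y', hy', rfl⟩ := hy
  exact ⟨⟨b, hb⟩ * y' * ⟨b, hb⟩⁻¹, Subgroup.Normal.conj_mem inferInstance y' hy' _, rfl⟩

theorem exists_sylow_inv {t : G} (ht : Invol t) : ∃ T : Sylow 2 G, t ∈ T :=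
  ht.pel.exists_sylow

theorem sylow_of_commute {a b : G} (ha : Invol a) (hb : Invol b) (hab : a * b = b * a) :
    ∃ T : Sylow 2 G, a ∈ T ∧ b ∈ T := by
  have hn : zpowers a ≤ normalizer (zpowers b : Set G) := by
    rw [zpowers_le]
    refine mem_normalizer_of_conj_mem fun x hx => ?_
    obtain ⟨k, rfl⟩ := mem_zpowers_iff.1 hx
    have h1 : Commute a b := hab
    rw [(h1.zpow_right k).eq, mul_inv_cancel_right]
    exact zpow_mem (mem_zpowers b) k
  obtain ⟨T, hT⟩ := (IsPGroup.to_sup_of_normal_right' ha.pel.isPGroup hb.pel.isPGroup hn).exists_le_sylow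
  exact ⟨T, hT (mem_sup_left (mem_zpowers a)), hT (mem_sup_right (mem_zpowers b))⟩

theorem invol_conj {a b : G} (ha : Invol a) (hb : Invol b) : ∃ c, c * a * c⁻¹ = b := by
  obtain ⟨T, hT⟩ := h.exists_sylow_inv ha
  obtain ⟨T', hT'⟩ := h.exists_sylow_inv hb
  obtain ⟨c, rfl⟩ := MulAction.exists_smul_eq G T T'
  obtain ⟨g, -, -, hg⟩ := h.mov _ _ (conj_mem_smul (g := c) hT) _ hT' (ha.conj c).1 hb.1
  exact ⟨g * c, by rw [← hg]; group⟩

theorem dvd_card_of_invol {t : G} (ht : Invol t) {H : Subgroup G} (hH : t ∈ H) :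
    2 ∣ Nat.card H := by
  have h1 : orderOf t = 2 := orderOf_eq_prime (by rw [pow_two]; exact ht.2) ht.1
  exact h1 ▸ orderOf_dvd_natCard H hH

theorem inv_cent {z : G} (hz : Invol z) : ∃ U, PN p (centralizer {z}) U := by
  refine h.no_move (h.centralizer_ne_top hz.1 (Or.inr hz.pel))
    (h.dvd_card_of_invol hz (mem_centralizer_singleton_iff.2 rfl))
    fun g hg hgp D hD hD2 hgD x hx => ?_
  have hgz : g * z = z * g := mem_centralizer_singleton_iff.1 hg
  have hn : D ≤ normalizer (zpowers z : Set G) := fun a ha => by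
    refine mem_normalizer_of_conj_mem fun b hb => ?_
    obtain ⟨k, rfl⟩ := mem_zpowers_iff.1 hb
    have h1 : Commute a z := mem_centralizer_singleton_iff.1 (hD ha)
    rw [(h1.zpow_right k).eq, mul_inv_cancel_right]
    exact zpow_mem (mem_zpowers z) k
  refine h.fix_cent hgp (IsPGroup.to_sup_of_normal_right' hD2 hz.pel.isPGroup hn) ?_
    (mem_sup_right (mem_zpowers z)) hz.1 hgz x (mem_sup_left hx)
  have h1 : g ∈ normalizer ((zpowers z : Subgroup G) : Set G) := by
    refine mem_normalizer_of_conj_mem fun b hb => ?_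
    obtain ⟨k, rfl⟩ := mem_zpowers_iff.1 hb
    have h2 : Commute g z := hgz
    rw [(h2.zpow_right k).eq, mul_inv_cancel_right]
    exact zpow_mem (mem_zpowers z) k
  refine mem_normalizer_of_conj_mem fun b hb => ?_
  have hle : D ⊔ zpowers z ≤ (D ⊔ zpowers z).comap (MulAut.conj g).toMonoidHom :=
    sup_le (fun a ha => mem_sup_left ((mem_normalizer_iff.1 hgD a).1 ha))
      (fun a ha => mem_sup_right ((mem_normalizer_iff.1 h1 a).1 ha))
  exact hle hb

theorem sylow_unique {u : G} {P : Sylow p G} (hu : u ∈ P)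
    (hC : centralizer {u} ≤ normalizer ((P : Subgroup G) : Set G)) {P' : Sylow p G}
    (hu' : u ∈ P') : P' = P :=
  Sylow.ext (P'.3 P.2 fun _ hx => mem_sylow_of_normalizes (pel_of_mem P'.2 hx)
    (hC (h.le_centralizer P' hu' hx))).symm

theorem inverted_dvd {t y : G} (ht : Invol t) (hy : t * y * t⁻¹ = y⁻¹) {r : ℕ} (hr : r.Prime)
    (hrd : r ∣ orderOf y) : r = p ∨ r = 2 := by
  by_contra hcon
  push Not at hcon
  haveI := Fact.mk hr
  have ho : orderOf (y ^ (orderOf y / r)) = r := orderOf_pow_orderOf_div (orderOf_pos y).ne' hrd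
  refine ht.1 (h.hyp.inv_q hcon.1 hcon.2
    (R := zpowers (y ^ (orderOf y / r))) (IsPGroup.of_card (n := 1) (by
      rw [Nat.card_zpowers, ho, pow_one])) (fun e => ?_)
    (mem_normalizer_zpowers (inverted_pow hy _)) ht.pel)
  rw [zpowers_eq_bot, ← orderOf_eq_one_iff, ho] at e
  exact hr.ne_one e

theorem inverted_cases {t y : G} (ht : Invol t) (hy : t * y * t⁻¹ = y⁻¹) :
    (∃ v, Invol v ∧ v ∈ zpowers y ∧ v * t = t * v ∧ v * y = y * v) ∨ PEl p y := by
  by_cases h2 : 2 ∣ orderOf y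
  · left
    have ho : orderOf (y ^ (orderOf y / 2)) = 2 := orderOf_pow_orderOf_div (orderOf_pos y).ne' h2
    have hv : Invol (y ^ (orderOf y / 2)) := by
      refine ⟨fun e => by rw [e, orderOf_one] at ho; omega, ?_⟩
      rw [← pow_two]
      conv_lhs => arg 2; rw [← ho]
      exact pow_orderOf_eq_one _
    refine ⟨_, hv, pow_mem (mem_zpowers y) _, ?_, (Commute.pow_self y _).eq⟩
    have h1 := inverted_pow hy (orderOf y / 2)
    rw [hv.inv_eq] at h1
    exact (mul_inv_eq_iff_eq_mul.1 h1).symm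
  · right
    refine ⟨_, Nat.eq_prime_pow_of_unique_prime_dvd (orderOf_pos y).ne' (p := p) ?_⟩
    intro r hr hrd
    exact (h.inverted_dvd ht hy hr hrd).resolve_right fun e => h2 (e ▸ hrd)

theorem odd_isPGroup {t : G} (ht : Invol t) {K : Subgroup G} (hK : ¬ 2 ∣ Nat.card K)
    (htK : t ∈ normalizer (K : Set G)) : IsPGroup p K := by
  rw [PBasic.isPGroup_iff_forall_coprime]
  intro x hx
  by_contra hx1
  obtain ⟨r, hr, hrd⟩ := Nat.exists_prime_and_dvd (mt orderOf_eq_one_iff.1 hx1)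
  haveI := Fact.mk hr
  have hrp : r ≠ p := fun e => hp.out.ne_one
    ((Nat.coprime_self p).1 (Nat.Coprime.coprime_dvd_left (e ▸ hrd) hx))
  have hrK : r ∣ Nat.card K := hrd.trans (orderOf_dvd_natCard x)
  have hr2 : r ≠ 2 := fun e => hK (e ▸ hrK)
  set L := K ⊔ zpowers t with hL
  haveI : (K.subgroupOf L).Normal :=
    normal_subgroupOf_of_le_normalizer (sup_le le_normalizer (zpowers_le.2 htK))
  have ho : orderOf t = 2 := orderOf_eq_prime (by rw [pow_two]; exact ht.2) ht.1
  have hidx : (K.subgroupOf L).index ∣ 2 := by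
    have h1 := card_sup_dvd (A := K) (zpowers_le.2 htK)
    rw [Nat.card_zpowers, ho, ← PBasic.card_mul_relIndex (le_sup_left : K ≤ L)] at h1
    exact Nat.dvd_of_mul_dvd_mul_left Nat.card_pos h1
  obtain ⟨R⟩ : Nonempty (Sylow r L) := inferInstance
  have h1 := dvd_card_normalizer (G := L) (r := 2) Nat.prime_two R (N := K.subgroupOf L)
    (fun hd => hr2 ((Nat.prime_dvd_prime_iff_eq hr Nat.prime_two).1 (hd.trans hidx)))
    (by rw [Nat.card_congr (subgroupOfEquivOfLe le_sup_left).toEquiv]; exact hK)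
    (h.dvd_card_of_invol ht (mem_sup_right (mem_zpowers t)))
  obtain ⟨y, hy⟩ := exists_prime_orderOf_dvd_card' 2 h1
  have hRne : ((R : Subgroup L).map L.subtype) ≠ ⊥ := fun e =>
    R.ne_bot_of_dvd_card (hrK.trans (card_dvd_of_le le_sup_left))
      ((map_eq_bot_iff_of_injective _ L.subtype_injective).1 e)
  have hy1 := h.hyp.inv_q hrp hr2 (R.2.map L.subtype) hRne (y := ((y : L) : G)) (by
    refine mem_normalizer_of_conj_mem ?_
    rintro _ ⟨a, ha, rfl⟩
    exact ⟨(y : L) * a * (y : L)⁻¹, (mem_normalizer_iff.1 y.2 a).1 ha, rfl⟩)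
    ⟨1, by rw [orderOf_coe, orderOf_coe, hy, pow_one]⟩
  rw [← orderOf_eq_one_iff, orderOf_coe, orderOf_coe, hy] at hy1
  omega

end Two

end Cfsg.Agent.QMixed
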